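import Mathlib
import Cfsg.Agent.H8.Flag
import Cfsg.Agent.H2.Quat
import Cfsg.Agent.H7.Crit
import Cfsg.Prelude.Def_CaseTheorems

/-!
Metacyclic `p`-groups without invariant flags.
-/

set_option autoImplicit false

namespace Cfsg.Agent.H8

open Subgroup
open scoped commutatorElement

section general

variable {G : Type*} [Group G] {p : ℕ}

theorem mem_of_zpow_mem_of_not_dvd [hp : Fact p.Prime] {K : Subgroup G} {x : G} {j : ℤ} {k : ℕ}
    (hj : ¬ (p : ℤ) ∣ j) (h1 : x ^ j ∈ K) (h2 : x ^ p ^ k ∈ K) : x ∈ K := by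
  obtain ⟨a, b, h⟩ := ((Nat.prime_iff_prime_int.1 hp.out).coprime_iff_not_dvd.2 hj).pow_left (m := k)
  have := K.mul_mem (K.zpow_mem h2 a) (K.zpow_mem h1 b)
  rwa [← zpow_natCast, ← zpow_mul, ← zpow_mul, ← zpow_add, Nat.cast_pow, mul_comm _ a, mul_comm _ b,
    h, zpow_one] at this

theorem zpow_mem_zpowers_pow {x : G} {j : ℤ} (h : (p : ℤ) ∣ j) : x ^ j ∈ zpowers (x ^ p) := by
  obtain ⟨k, rfl⟩ := h
  exact ⟨k, by simp only [zpow_mul, zpow_natCast]⟩

theorem mem_zpowers_total [hp : Fact p.Prime] [Finite G] [IsCyclic G] {u v : G} {a b : ℕ}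
    (hu : u ^ p ^ a = 1) (hv : v ^ p ^ b = 1) : u ∈ zpowers v ∨ v ∈ zpowers u := by
  obtain ⟨i, -, hi⟩ := (Nat.dvd_prime_pow hp.out).1 (orderOf_dvd_of_pow_eq_one hu)
  obtain ⟨j, -, hj⟩ := (Nat.dvd_prime_pow hp.out).1 (orderOf_dvd_of_pow_eq_one hv)
  rcases le_total i j with h | h
  · exact Or.inl (H2.mem_zpowers_of_isCyclic (orderOf_dvd_iff_pow_eq_one.1
      (by rw [hi, hj]; exact pow_dvd_pow p h)))
  · exact Or.inr (H2.mem_zpowers_of_isCyclic (orderOf_dvd_iff_pow_eq_one.1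
      (by rw [hi, hj]; exact pow_dvd_pow p h)))

theorem inv_mul_conj_mem_zpowers_pow [hp : Fact p.Prime] [Finite G] (hG : IsPGroup p G) {x g : G}
    (h : g * x * g⁻¹ ∈ zpowers x) : x⁻¹ * (g * x * g⁻¹) ∈ zpowers (x ^ p) := by
  obtain ⟨r, hr⟩ := (mem_powers_iff_mem_zpowers (x := x)).2 h
  by_cases hx : x = 1
  · simp [hx]
  have h1 := H2.conj_exponent_modEq_one hG hx (Eq.symm hr)
  rw [← show x ^ r = _ from hr, ← zpow_natCast x r, ← zpow_neg_one, ← zpow_add]
  exact zpow_mem_zpowers_pow (by rw [add_comm]; exact_mod_cast h1.symm.dvd)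

theorem prime_dvd_choose_two [hp : Fact p.Prime] {j : ℕ} (hj : 1 ≤ j) (h : p ≠ 2 ∨ 2 ≤ j) :
    p ∣ (p ^ j).choose 2 := by
  by_cases h2 : p = 2
  · subst h2
    obtain ⟨k, rfl⟩ := Nat.exists_eq_add_of_le' (h.resolve_left fun h => h rfl)
    rw [Nat.choose_two_right, pow_succ, mul_right_comm, Nat.mul_div_cancel _ two_pos, pow_succ]
    exact Dvd.dvd.mul_right (Dvd.intro_left _ rfl) _
  · refine (Nat.Coprime.dvd_mul_right (n := 2)
      ((Nat.coprime_primes hp.out Nat.prime_two).2 h2)).1 ?_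
    rw [Nat.choose_two_right, Nat.div_mul_cancel (Nat.even_mul_pred_self _).two_dvd]
    exact Dvd.dvd.mul_right (dvd_pow_self p (by omega)) _

/-- The elements whose `n`-th power lies in `K`, when powering is multiplicative modulo `K`. -/
def powIn (K : Subgroup G) [K.Normal] (n : ℕ)
    (h : ∀ a b : G, ((a * b) ^ n : G ⧸ K) = a ^ n * b ^ n) : Subgroup G where
  carrier := {x | x ^ n ∈ K}
  one_mem' := by simp
  mul_mem' := fun {a b} ha hb => by
    rw [Set.mem_ofPred_eq, ← QuotientGroup.eq_one_iff] at ha hb ⊢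
    rw [QuotientGroup.mk_pow] at ha hb ⊢
    rw [QuotientGroup.mk_mul, h, ha, hb, one_mul]
  inv_mem' := fun {a} ha => by simpa using ha

theorem index_frattini_dvd_of_gen [hp : Fact p.Prime] [Finite G] (hG : IsPGroup p G) {x y : G}
    (h : ∀ g : G, ∃ j : ℤ, g * (y ^ j)⁻¹ ∈ zpowers x) : (frattini G).index ∣ p ^ 2 := by
  haveI : (zpowers x ⊔ frattini G).Normal := ⟨fun a ha g => by
    have := Subgroup.mul_mem _ (mem_sup_right (S := zpowers x) (comm_mem_frattini hG g a)) ha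
    simpa using this⟩
  rw [← relIndex_mul_index (le_sup_right : frattini G ≤ zpowers x ⊔ frattini G), sq]
  refine mul_dvd_mul (relIndex_dvd_of_le_zpowers_sup (pow_mem_frattini hG x) le_rfl) ?_
  rw [← relIndex_top_right]
  refine relIndex_dvd_of_le_zpowers_sup (mem_sup_right (pow_mem_frattini hG y)) fun g _ => ?_
  obtain ⟨j, hj⟩ := h g
  have := Subgroup.mul_mem _ (mem_sup_right (S := zpowers y) (mem_sup_left (T := frattini G) hj))
    (mem_sup_left ⟨j, rfl⟩)
  simpa using this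

end general

section noflag

variable {G : Type*} [Group G] [Finite G] {p : ℕ} [hp : Fact p.Prime] {A : Subgroup (MulAut G)}

/-- There is no `A`-invariant proper subgroup outside the Frattini subgroup. -/
def NoFlag (A : Subgroup (MulAut G)) : Prop :=
  ∀ M : Subgroup G, (∀ a ∈ A, ∀ y ∈ M, a y ∈ M) → M ≤ frattini G ∨ M = ⊤

theorem noFlag_of_not_stab (hG : IsPGroup p G) (hr : (frattini G).index ∣ p ^ 2)
    (h : ¬ Stab p A (pElts p A) ⊤) : NoFlag A := fun M hM => by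
  by_contra hne
  exact h (stab_of_rank_two hG hr hM (fun h1 => hne (Or.inl h1)) fun h1 => hne (Or.inr h1))

omit [Finite G] hp in
theorem NoFlag.pow_mem (h : NoFlag A) (K : Subgroup G) [K.Characteristic] {n : ℕ}
    (hK : ∀ a b : G, ((a * b) ^ n : G ⧸ K) = a ^ n * b ^ n) {x : G} (hx : x ∉ frattini G)
    (h1 : x ^ n ∈ K) (y : G) : y ^ n ∈ K :=
  ((h (powIn K n hK) fun a ha y hy => by
    change a y ^ n ∈ K
    rw [← map_pow]; exact char_inv A a ha _ hy).resolve_left fun h2 => hx (h2 h1)).ge trivial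

omit [Finite G] hp in
theorem NoFlag.pow_eq_one (h : NoFlag A) (hc : ∀ a b : G, a * b = b * a) {n : ℕ} {x : G}
    (hx : x ∉ frattini G) (h1 : x ^ n = 1) (y : G) : y ^ n = 1 :=
  mem_bot.1 (h.pow_mem ⊥ (fun a b => by
    rw [← QuotientGroup.mk_mul, ← QuotientGroup.mk_pow, Commute.mul_pow (hc a b)]; rfl) hx h1 y)

omit [Finite G] hp in
theorem quot_commutator_mul_pow (n : ℕ) (a b : G) :
    ((a * b) ^ n : G ⧸ _root_.commutator G) = a ^ n * b ^ n := by
  refine Commute.mul_pow ?_ n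
  rw [Commute, SemiconjBy, ← QuotientGroup.mk_mul, ← QuotientGroup.mk_mul, QuotientGroup.eq]
  have : ⁅b⁻¹, a⁻¹⁆ ∈ _root_.commutator G := commutator_mem_commutator (mem_top b⁻¹) (mem_top a⁻¹)
  simpa [commutatorElement_def, mul_assoc] using this

omit [Finite G] hp in
theorem commutator_le_of_gen {x y : G} (h : ∀ g : G, ∃ j : ℤ, g * (y ^ j)⁻¹ ∈ zpowers x)
    (K : Subgroup G) [K.Normal] (hK : ⁅x, y⁆ ∈ K) : _root_.commutator G ≤ K := by
  have h1 : Commute (x : G ⧸ K) y := commutatorElement_eq_one_iff_commute.1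
    ((QuotientGroup.eq_one_iff _).2 hK)
  have h2 : ∀ g : G, ∃ i j : ℤ, (g : G ⧸ K) = x ^ i * y ^ j := fun g => by
    obtain ⟨j, i, hj⟩ := h g
    exact ⟨i, j, by
      rw [← QuotientGroup.mk_zpow, ← QuotientGroup.mk_zpow, ← QuotientGroup.mk_mul,
        show x ^ i = _ from hj, inv_mul_cancel_right]⟩
  refine commutator_le.2 fun a _ b _ => (QuotientGroup.eq_one_iff _).1 ?_
  obtain ⟨i, j, ha⟩ := h2 a
  obtain ⟨k, l, hb⟩ := h2 b
  change ⁅(a : G ⧸ K), (b : G ⧸ K)⁆ = 1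
  rw [commutatorElement_eq_one_iff_commute, ha, hb]
  exact ((Commute.refl _).zpow_zpow i k |>.mul_right (h1.zpow_zpow i l)).mul_left
    ((h1.symm.zpow_zpow j k).mul_right ((Commute.refl _).zpow_zpow j l))

omit [Finite G] hp in
theorem normal_zpowers_pow {x : G} [hx : (zpowers x).Normal] (n : ℕ) : (zpowers (x ^ n)).Normal :=
  ⟨by
    rintro _ ⟨k, rfl⟩ g
    obtain ⟨r, hr⟩ := hx.conj_mem x (mem_zpowers x) g
    refine ⟨r * k, ?_⟩
    simp only [← conj_zpow, ← conj_pow, ← show x ^ r = _ from hr, ← zpow_natCast, ← zpow_mul]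
    congr 1; ring⟩

omit hp in
theorem characteristic_zpowers_pow {d : G} [hd : (zpowers d).Characteristic] (n : ℕ) :
    (zpowers (d ^ n)).Characteristic := by
  refine characteristic_iff_map_le.2 fun α => ?_
  rw [MonoidHom.map_zpowers, zpowers_le, map_pow]
  obtain ⟨r, hr⟩ := char_inv (M := zpowers d) ⊤ α trivial d (mem_zpowers d)
  exact ⟨r, by
    change _ = α d ^ n
    rw [← hr]; simp only [← zpow_natCast, ← zpow_mul, mul_comm]⟩

/-- A metacyclic group without invariant flag is abelian or quaternion of order eight. -/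
theorem NoFlag.comm_or_quaternion (h : NoFlag A) (hG : IsPGroup p G) {x y : G}
    [hx : (zpowers x).Normal] (hxy : ∀ g : G, ∃ j : ℤ, g * (y ^ j)⁻¹ ∈ zpowers x)
    (hxf : x ∉ frattini G) : (∀ a b : G, a * b = b * a) ∨
      (p = 2 ∧ orderOf x = 4 ∧ y * x * y⁻¹ = x⁻¹ ∧ y * y = x ^ 2 ∧ y ∉ zpowers x) := by
  by_cases hc : ⁅x, y⁆ = 1
  · exact Or.inl fun a b => commutatorElement_eq_one_iff_mul_comm.1 (mem_bot.1
      (commutator_le_of_gen hxy ⊥ (mem_bot.2 hc) (commutator_mem_commutator (mem_top a) (mem_top b))))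
  right
  have hy : y ∉ zpowers x := by
    rintro ⟨k, rfl⟩
    exact hc (commutatorElement_eq_one_iff_commute.2 ((Commute.refl x).zpow_right k))
  obtain ⟨s, hs⟩ := inv_mul_conj_mem_zpowers_pow hG (hx.conj_mem x (mem_zpowers x) y)
  have hs' : ⁅x, y⁆⁻¹ = (x ^ p) ^ s := by
    rw [show (x ^ p) ^ s = _ from hs, commutatorElement_inv, commutatorElement_def]
    obtain ⟨r, hr⟩ := hx.conj_mem x (mem_zpowers x) y
    rw [← show x ^ r = _ from hr]; group
  obtain ⟨j, u, hu, hju⟩ : ∃ (j : ℕ) (u : ℤ), ¬ (p : ℤ) ∣ u ∧ s = p ^ j * u := by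
    have hs0 : s ≠ 0 := by rintro rfl; exact hc (inv_eq_one.1 (by rw [hs', zpow_zero]))
    obtain ⟨j, u, hu, h1⟩ := Nat.exists_eq_pow_mul_and_not_dvd (Int.natAbs_ne_zero.2 hs0) p
      hp.out.ne_one
    rcases Int.natAbs_eq s with h2 | h2
    · exact ⟨j, u, by exact_mod_cast hu, by rw [h2, h1]; push_cast; ring⟩
    · exact ⟨j, -u, by rw [dvd_neg]; exact_mod_cast hu, by rw [h2, h1]; push_cast; ring⟩
  set d := x ^ p ^ (j + 1) with hd
  have hcd : ⁅x, y⁆⁻¹ = d ^ u := by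
    rw [hs', hju, hd, pow_succ', pow_mul, zpow_mul, ← Nat.cast_pow, zpow_natCast]
  haveI : (zpowers d).Normal := normal_zpowers_pow _
  have hD : _root_.commutator G = zpowers d := by
    refine le_antisymm (commutator_le_of_gen hxy _ (inv_mem_iff.1 (hcd ▸ ⟨u, rfl⟩)))
      (zpowers_le.2 ?_)
    obtain ⟨k, hk⟩ := hG d
    exact mem_of_zpow_mem_of_not_dvd hu (hcd ▸ inv_mem
      (commutator_mem_commutator (mem_top x) (mem_top y))) (hk ▸ one_mem _)
  haveI : (zpowers d).Characteristic := hD ▸ inferInstance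
  have hd1 : d ≠ 1 := fun h1 => hc (inv_eq_one.1 (by rw [hcd, h1, one_zpow]))
  have hyp : y ^ p ^ (j + 1) ∈ zpowers d :=
    hD ▸ h.pow_mem _ (quot_commutator_mul_pow _) hxf (hD ▸ mem_zpowers d) y
  have hfx : ∀ i : ℤ, y * x ^ i ∉ frattini G := fun i h1 => hy (by
    have h2 : zpowers x = ⊤ := frattini_nongenerating (eq_top_iff.2 fun g _ => by
      obtain ⟨k, hk⟩ := hxy g
      have h3 : y ∈ zpowers x ⊔ frattini G := by
        have := Subgroup.mul_mem _ (mem_sup_right (S := zpowers x) h1) (mem_sup_left ⟨-i, rfl⟩)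
        simpa using this
      have := Subgroup.mul_mem _ (mem_sup_left (T := frattini G) hk) (zpow_mem h3 k)
      simpa using this)
    exact h2.ge trivial)
  by_cases hpj : p ≠ 2 ∨ 2 ≤ j + 1
  · exfalso
    haveI := characteristic_zpowers_pow (d := d) p
    have hmul : ∀ a b : G, ((a * b) ^ p ^ (j + 1) : G ⧸ zpowers (d ^ p)) =
        a ^ p ^ (j + 1) * b ^ p ^ (j + 1) := fun a b => by
      have hcen : ∀ c ∈ zpowers d, ∀ g : G, Commute (c : G ⧸ zpowers (d ^ p)) g := by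
        rintro _ ⟨k, rfl⟩ g
        rw [QuotientGroup.mk_zpow]
        refine Commute.zpow_left ?_ k
        rw [Commute, SemiconjBy, ← QuotientGroup.mk_mul, ← QuotientGroup.mk_mul, QuotientGroup.eq]
        have := (inferInstance : (zpowers (d ^ p)).Normal).conj_mem' _
          (inv_mul_conj_mem_zpowers_pow hG
            ((inferInstance : (zpowers d).Normal).conj_mem d (mem_zpowers d) g)) g
        simpa [mul_assoc] using this
      have h1 : ⁅b, a⁆ ∈ zpowers d := hD ▸ commutator_mem_commutator (mem_top b) (mem_top a)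
      rw [Fus.mul_pow_of_comm (c := ((⁅b, a⁆ : G) : G ⧸ zpowers (d ^ p))) (by
        rw [← QuotientGroup.mk_mul, ← QuotientGroup.mk_mul, ← QuotientGroup.mk_mul,
          commutatorElement_def]; congr 1; group) (hcen _ h1 a) (hcen _ h1 b)]
      obtain ⟨l, hl⟩ := prime_dvd_choose_two (by omega) hpj
      obtain ⟨k, hk⟩ := h1
      rw [hl, pow_mul, ← QuotientGroup.mk_pow _ _ p,
        (QuotientGroup.eq_one_iff (⁅b, a⁆ ^ p)).2, one_pow, mul_one]
      exact ⟨k, by rw [← hk]; simp only [← zpow_natCast, ← zpow_mul, mul_comm]⟩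
    obtain ⟨i, hi⟩ := hyp
    have h2 : (y * x ^ (-i)) ^ p ^ (j + 1) ∈ zpowers (d ^ p) := by
      rw [← QuotientGroup.eq_one_iff, QuotientGroup.mk_pow, QuotientGroup.mk_mul, hmul,
        ← QuotientGroup.mk_pow, ← QuotientGroup.mk_pow, ← QuotientGroup.mk_mul, ← hi]
      refine congrArg QuotientGroup.mk (?_ : _ = (1 : G))
      simp only [hd, ← zpow_natCast, ← zpow_mul, ← zpow_add]
      rw [show ((p ^ (j + 1) : ℕ) : ℤ) * i + -i * (p ^ (j + 1) : ℕ) = 0 by ring, zpow_zero]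
    have h3 := h.pow_mem _ hmul (hfx _) h2 x
    exact (H2.orderOf_pow_prime_lt hG hd1).not_ge
      (Nat.le_of_dvd (orderOf_pos _) (orderOf_dvd_of_mem_zpowers h3))
  obtain ⟨rfl, rfl⟩ : p = 2 ∧ j = 0 := by omega
  simp only [zero_add, pow_one] at hd hyp
  have hF : frattini G ≤ zpowers d := frattini_le_of_pow_comm (p := 2)
    (fun g => hD ▸ h.pow_mem _ (quot_commutator_mul_pow _) hxf (hD ▸ mem_zpowers d) g)
    fun a b => hD ▸ commutator_mem_commutator (mem_top a) (mem_top b)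
  obtain ⟨γ, hγ, hγx⟩ : ∃ γ ∈ A, γ x ∉ zpowers x := by
    by_contra hne
    push Not at hne
    rcases h (zpowers x) (by
      rintro a ha _ ⟨k, rfl⟩
      rw [map_zpow]; exact zpow_mem (hne a ha) k) with h1 | h1
    · exact hxf (h1 (mem_zpowers x))
    · exact hy (h1.ge trivial)
  have hyd : y ^ 2 ∈ zpowers x := zpowers_le.2 (Subgroup.pow_mem _ (mem_zpowers x) 2) hyp
  obtain ⟨i, hi⟩ : ∃ i : ℤ, γ x = x ^ i * y := by
    obtain ⟨k, hk⟩ := hxy (γ x)
    obtain ⟨m, rfl | rfl⟩ := Int.even_or_odd' k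
    · refine absurd ?_ hγx
      have := Subgroup.mul_mem _ hk (zpow_mem hyd m)
      rwa [← zpow_natCast, ← zpow_mul, Nat.cast_ofNat, inv_mul_cancel_right] at this
    · obtain ⟨i, hi⟩ := Subgroup.mul_mem _ hk (zpow_mem hyd m)
      refine ⟨i, ?_⟩
      rw [show x ^ i = _ from hi, ← zpow_natCast, ← zpow_mul, Nat.cast_ofNat, zpow_add]; group
  have hcomm : Commute y d := by
    obtain ⟨k, hk⟩ := hF (char_inv ⊤ γ⁻¹ trivial _ (pow_mem_frattini hG x))
    have h1 : d = (γ x ^ 2) ^ k := by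
      rw [← map_pow, ← map_zpow, show (x ^ 2) ^ k = _ from hk]; simp [hd]
    have h2 : Commute (γ x) d := by rw [h1]; exact ((Commute.refl _).pow_right 2).zpow_right k
    have h3 : Commute (x ^ i) d := ((Commute.refl x).pow_right 2).zpow_left i
    rw [hi] at h2
    simpa using h3.inv_left.mul_left h2
  have hyx : y * x * y⁻¹ = d ^ u * x := by rw [← hcd, commutatorElement_inv, commutatorElement_def]; group
  have hdx : Commute (d ^ u) x := ((Commute.refl x).pow_left 2).zpow_left u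
  have hd2 : d ^ 2 = 1 := by
    have h1 : y * d * y⁻¹ = (d ^ u) ^ 2 * d := by
      conv_lhs => rw [hd, ← conj_pow, hyx, hdx.mul_pow, ← hd]
    rw [hcomm.eq, mul_inv_cancel_right, right_eq_mul] at h1
    obtain ⟨k, hk⟩ := hG (d ^ 2)
    refine mem_bot.1 (mem_of_zpow_mem_of_not_dvd hu (mem_bot.2 ?_) (mem_bot.2 hk))
    rw [← h1]; simp only [← zpow_natCast, ← zpow_mul, mul_comm]
  have hdu : d ^ u = d := by
    obtain ⟨m, rfl | rfl⟩ := Int.even_or_odd' u
    · exact absurd (Dvd.intro _ rfl) hu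
    · rw [zpow_add, zpow_mul, zpow_ofNat, hd2]; simp
  have hx4 : orderOf x = 2 ^ (1 + 1) := orderOf_eq_prime_pow (by rw [pow_one, ← hd]; exact hd1)
    (by rw [← hd2, hd, ← pow_mul]; rfl)
  have hinv : y * x * y⁻¹ = x⁻¹ := by
    rw [hyx, hdu, eq_inv_iff_mul_eq_one, ← hd2, hd]; group
  refine ⟨rfl, hx4, hinv, ?_, hy⟩
  have h1 : γ x ^ 2 = y * y := by
    have h2 : y * x ^ i * y⁻¹ = (x ^ i)⁻¹ := by rw [← conj_zpow, hinv, inv_zpow]
    rw [hi, sq]
    calc x ^ i * y * (x ^ i * y) = x ^ i * (y * x ^ i * y⁻¹) * (y * y) := by group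
      _ = _ := by rw [h2]; group
  obtain ⟨k, hk⟩ := hyp
  obtain ⟨m, rfl | rfl⟩ := Int.even_or_odd' k
  · exfalso
    simp only [zpow_mul, zpow_ofNat, hd2, one_zpow] at hk
    rw [← sq, ← hk, ← map_pow, map_eq_one_iff _ γ.injective] at h1
    exact hd1 h1
  · simp only [zpow_add, zpow_mul, zpow_ofNat, hd2, one_zpow, one_mul, pow_one] at hk
    rw [← sq, ← hk, hd]

end noflag

end Cfsg.Agent.H8
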