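import Mathlib
import Cfsg.Agent.H8.MetaGrp
import Cfsg.Prelude.Def_Transfer

/-!
Groups that split as an extraspecial group of order `p³` times an elementary abelian group.
-/

set_option autoImplicit false

namespace Cfsg.Agent.H8

open Subgroup

variable {G : Type*} [Group G] {p : ℕ} {z g w : G}

theorem mem_zpowers_of_prime [hp : Fact p.Prime] {z c d : G} (hz : z ^ p = 1)
    (hc : c ∈ zpowers z) (hc1 : c ≠ 1) (hd : d ∈ zpowers z) : d ∈ zpowers c := by
  obtain ⟨j, rfl⟩ := hc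
  refine zpowers_le.2 (mem_of_zpow_mem_of_not_dvd (p := p) (j := j) (k := 1) ?_ (mem_zpowers _)
    (by rw [pow_one, hz]; exact one_mem _)) hd
  rintro ⟨k, rfl⟩
  exact hc1 (by simp only [zpow_mul, zpow_natCast, hz, one_zpow])

theorem isExtraspecial_of_elt [Finite G] [hp : Fact p.Prime] (hG : IsPGroup p G)
    (ord : orderOf z = p) (hZ : center G = zpowers z) (pow : ∀ x : G, x ^ p ∈ zpowers z)
    (comm : ∀ x y : G, x * y * x⁻¹ * y⁻¹ ∈ zpowers z) (ne : g * w ≠ w * g) :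
    IsExtraspecial p G := by
  have h1 : frattini G ≤ zpowers z := frattini_le_of_pow_comm pow comm
  have h2 : zpowers z ≤ _root_.commutator G := fun d hd =>
    zpowers_le.2 (commutator_mem_commutator (mem_top g) (mem_top w))
      (mem_zpowers_of_prime (ord ▸ pow_orderOf_eq_one z) (comm g w)
        (fun h => ne (commutatorElement_eq_one_iff_mul_comm.1 h)) hd)
  have h3 := commutator_le_frattini' hG
  exact ⟨⟨hG, hZ ▸ le_antisymm h1 (h2.trans h3), hZ ▸ le_antisymm (h3.trans h1) h2⟩,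
    by rw [hZ, Nat.card_zpowers, ord]⟩

/-- Data of a group `⟨g, w⟩ Z(G)` with Frattini subgroup `⟨z⟩` of order `p`. -/
structure GenES (p : ℕ) (z g w : G) : Prop where
  ord : orderOf z = p
  cen : z ∈ center G
  pow : ∀ x : G, x ^ p ∈ zpowers z
  comm : ∀ x y : G, x * y * x⁻¹ * y⁻¹ ∈ zpowers z
  ne : g * w ≠ w * g
  cp : ∀ c ∈ center G, c ^ p = 1
  gen : ∀ x : G, ∃ i j : ℤ, ∃ c ∈ center G, x = g ^ i * w ^ j * c

theorem map_mem_center {G' : Type*} [Group G'] (e : G ≃* G') {c : G} (hc : c ∈ center G) :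
    e c ∈ center G' := mem_center_iff.2 fun x => by
  obtain ⟨x, rfl⟩ := e.surjective x
  rw [← map_mul, mem_center_iff.1 hc, map_mul]

theorem GenES.map (h : GenES p z g w) {G' : Type*} [Group G'] (e : G ≃* G') :
    GenES p (e z) (e g) (e w) := by
  have hz : ∀ x ∈ zpowers z, e x ∈ zpowers (e z) := by
    rintro _ ⟨k, rfl⟩; exact ⟨k, (map_zpow e z k).symm⟩
  refine ⟨by rw [e.orderOf_eq, h.ord], map_mem_center e h.cen, fun x => ?_, fun x y => ?_,
    fun h1 => h.ne (e.injective (by simpa using h1)), fun c hc => ?_, fun x => ?_⟩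
  · simpa using hz _ (h.pow (e.symm x))
  · simpa using hz _ (h.comm (e.symm x) (e.symm y))
  · simpa using congrArg e (h.cp _ (map_mem_center e.symm hc))
  · obtain ⟨i, j, c, hc, h1⟩ := h.gen (e.symm x)
    exact ⟨i, j, e c, map_mem_center e hc, by simpa using congrArg e h1⟩

theorem GenES.dvd_of_comm [hp : Fact p.Prime] (h : GenES p z g w) {i : ℤ}
    (hi : Commute (g ^ i) w) : (p : ℤ) ∣ i := by
  by_contra hn
  refine h.ne (mem_centralizer_singleton_iff.1 (mem_of_zpow_mem_of_not_dvd (k := 1) hn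
    (mem_centralizer_singleton_iff.2 hi) ?_))
  rw [pow_one]
  exact center_le_centralizer _ (zpowers_le.2 h.cen (h.pow g))

theorem GenES.symm (h : GenES p z g w) : GenES p z w g := by
  refine ⟨h.ord, h.cen, h.pow, h.comm, h.ne.symm, h.cp, fun x => ?_⟩
  obtain ⟨i, j, c, hc, rfl⟩ := h.gen x
  have h1 := zpowers_le.2 h.cen (h.comm (g ^ i) (w ^ j))
  refine ⟨j, i, _, mul_mem h1 hc, ?_⟩
  rw [← mul_assoc, mem_center_iff.1 h1]; group

theorem GenES.split [Finite G] [hp : Fact p.Prime] (hG : IsPGroup p G) (h : GenES p z g w) :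
    ∃ E A : Subgroup G, A ≤ center G ∧ g ∈ E ∧ w ∈ E ∧ z ∈ E ∧
      (∀ x ∈ E, ∃ i j k : ℤ, x = g ^ i * w ^ j * z ^ k) ∧ IsExtraspecial p E ∧
      Nat.card E = p ^ 3 ∧ Nonempty (G ≃* E × A) := by
  have hzc : zpowers z ≤ center G := zpowers_le.2 h.cen
  have hnorm : ∀ N : Subgroup G, z ∈ N → N.Normal := fun N hN => ⟨fun x hx y => by
    simpa using mul_mem (zpowers_le.2 hN (h.comm y x)) hx⟩
  have hz1 : z ≠ 1 := fun h1 => hp.out.one_lt.ne (by rw [← h.ord, h1, orderOf_one])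
  have hzp : z ^ p = 1 := h.cp z h.cen
  haveI := hnorm _ (mem_zpowers z)
  haveI := hnorm (zpowers w ⊔ zpowers z) (mem_sup_right (mem_zpowers z))
  set E := zpowers g ⊔ (zpowers w ⊔ zpowers z) with hE
  have hzE : z ∈ E := mem_sup_right (mem_sup_right (mem_zpowers z))
  have hgE : g ∈ E := mem_sup_left (mem_zpowers g)
  have hwE : w ∈ E := mem_sup_right (mem_sup_left (mem_zpowers w))
  have hform : ∀ x ∈ E, ∃ i j k : ℤ, x = g ^ i * w ^ j * z ^ k := fun x hx => by
    obtain ⟨_, ⟨i, rfl⟩, _, hy, rfl⟩ := mem_sup_of_normal_right.1 hx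
    obtain ⟨_, ⟨j, rfl⟩, _, ⟨k, rfl⟩, rfl⟩ := mem_sup_of_normal_right.1 hy
    exact ⟨i, j, k, (mul_assoc _ _ _).symm⟩
  have hpz : ∀ (x : G) (i : ℤ), (p : ℤ) ∣ i → x ^ i ∈ zpowers z := fun x i hi =>
    zpowers_le.2 (h.pow x) (zpow_mem_zpowers_pow hi)
  have hcz : ∀ (x : G) (k : ℤ), Commute (z ^ k) x := fun x k =>
    (mem_center_iff.1 (zpow_mem h.cen k) x).symm
  have hEZ : ∀ x ∈ E, Commute x g → Commute x w → x ∈ zpowers z := fun x hx h1 h2 => by
    obtain ⟨i, j, k, rfl⟩ := hform x hx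
    have hi := h.dvd_of_comm (i := i) (by
      simpa using (h2.mul_left (hcz w k).inv_left).mul_left ((Commute.refl w).zpow_left j).inv_left)
    have hj := h.symm.dvd_of_comm (i := j) (by
      simpa [mul_assoc] using ((Commute.refl g).zpow_left i).inv_left.mul_left
        (h1.mul_left (hcz g k).inv_left))
    exact mul_mem (mul_mem (hpz g i hi) (hpz w j hj)) (zpow_mem (mem_zpowers z) k)
  obtain ⟨M, hM, hzM⟩ : ∃ M : Subgroup (center G), IsCoatom M ∧ (⟨z, h.cen⟩ : center G) ∉ M := by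
    by_contra! h1
    exact hz1 (congrArg Subtype.val (mem_bot.1 (frattini_le_of_pow_comm (p := p)
      (fun x => mem_bot.2 (Subtype.ext (h.cp _ x.2))) (fun x y => by
        rw [show x * y = y * x from Subtype.ext (mem_center_iff.1 y.2 x)]; simp)
      (mem_frattini_iff'.2 h1))))
  have hA : M.map (center G).subtype ≤ center G := map_subtype_le _
  have hzA : ∀ x ∈ zpowers z, x ∈ M.map (center G).subtype → x = 1 := fun x hx hxA => by
    by_contra h1
    obtain ⟨y, hy, h2⟩ := zpowers_le.2 hxA (mem_zpowers_of_prime hzp hx h1 (mem_zpowers z))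
    exact hzM ((Subtype.ext h2 : y = ⟨z, h.cen⟩) ▸ hy)
  refine ⟨E, _, hA, hgE, hwE, hzE, hform, isExtraspecial_of_elt (hG.to_subgroup E) (z := ⟨z, hzE⟩)
    (g := ⟨g, hgE⟩) (w := ⟨w, hwE⟩) (by rw [orderOf_mk, h.ord]) (le_antisymm (fun x hx => ?_)
      (zpowers_le.2 (mem_center_iff.2 fun x => Subtype.ext (mem_center_iff.1 h.cen x))))
    (fun x => (h.pow x).imp fun k hk => Subtype.ext hk)
    (fun x y => (h.comm x y).imp fun k hk => Subtype.ext hk)
    (fun h1 => h.ne (congrArg Subtype.val h1)), ?_, ⟨(MulEquiv.ofBijective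
      (E.subtype.noncommCoprod (M.map (center G).subtype).subtype
        fun x y => mem_center_iff.1 (hA y.2) x) ⟨?_, fun x => ?_⟩).symm⟩⟩
  · exact (hEZ x x.2 (congrArg Subtype.val (mem_center_iff.1 hx ⟨g, hgE⟩)).symm
      (congrArg Subtype.val (mem_center_iff.1 hx ⟨w, hwE⟩)).symm).imp fun k hk => Subtype.ext hk
  · have h1 : (zpowers z).relIndex (zpowers w ⊔ zpowers z) = p :=
      ((Nat.dvd_prime hp.out).1 (relIndex_dvd_of_le_zpowers_sup (h.pow w) le_rfl)).resolve_left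
        fun h1 => h.ne (mem_center_iff.1 (hzc (relIndex_eq_one.1 h1
          (mem_sup_left (mem_zpowers w)))) g)
    have h2 : (zpowers w ⊔ zpowers z).relIndex E = p :=
      ((Nat.dvd_prime hp.out).1 (relIndex_dvd_of_le_zpowers_sup (mem_sup_right (h.pow g))
        le_rfl)).resolve_left fun h2 => h.ne (mem_centralizer_singleton_iff.1 ((sup_le
          (zpowers_le.2 (mem_centralizer_singleton_iff.2 rfl)) (hzc.trans (center_le_centralizer _)))
          (relIndex_eq_one.1 h2 hgE)))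
    rw [← card_mul_relIndex' (le_sup_right : _ ≤ E), h2,
      ← card_mul_relIndex' (le_sup_right : _ ≤ zpowers w ⊔ zpowers z), h1, Nat.card_zpowers, h.ord]
    ring
  · rw [injective_iff_map_eq_one]
    rintro ⟨x, y⟩ hxy
    have h1 : (x : G) = (y : G)⁻¹ := eq_inv_of_mul_eq_one_left hxy
    have h2 : (x : G) ∈ center G := h1 ▸ inv_mem (hA y.2)
    have h3 := hzA x (hEZ x x.2 (mem_center_iff.1 h2 g).symm (mem_center_iff.1 h2 w).symm)
      (h1 ▸ inv_mem y.2)
    exact Prod.ext (Subtype.ext h3) (Subtype.ext (inv_eq_one.1 (h1.symm.trans h3)))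
  · obtain ⟨i, j, c, hc, rfl⟩ := h.gen x
    have h1 := (hM.2 (zpowers ⟨z, h.cen⟩ ⊔ M) (lt_of_le_of_ne le_sup_right fun h1 =>
      hzM (h1.ge (mem_sup_left (mem_zpowers _))))).ge (mem_top ⟨c, hc⟩)
    haveI : M.Normal := ⟨fun a ha b => by
      rwa [show b * a = a * b from Subtype.ext (mem_center_iff.1 a.2 b), mul_inv_cancel_right]⟩
    obtain ⟨_, ⟨k, rfl⟩, a, ha, h2⟩ := mem_sup_of_normal_right.1 h1
    refine ⟨(⟨g ^ i * w ^ j * z ^ k, mul_mem (mul_mem (zpow_mem hgE i) (zpow_mem hwE j))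
      (zpow_mem hzE k)⟩, ⟨a, mem_map_of_mem _ ha⟩), ?_⟩
    rw [← show z ^ k * a = c from congrArg Subtype.val h2, ← mul_assoc]; rfl

theorem GenES.pow_eq_one [hp : Fact p.Prime] (h : GenES p z g w) (hp2 : p ≠ 2) (hg : g ^ p = 1)
    (hw : w ^ p = 1) (x : G) : x ^ p = 1 := by
  obtain ⟨i, j, c, hc, rfl⟩ := h.gen x
  have h1 := zpowers_le.2 h.cen (h.comm (w ^ j) (g ^ i))
  obtain ⟨l, hl⟩ := hp.out.dvd_choose_self two_ne_zero (lt_of_le_of_ne hp.out.two_le hp2.symm)
  rw [Commute.mul_pow (mem_center_iff.1 hc _), Fus.mul_pow_of_comm (by group)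
    (mem_center_iff.1 h1 _).symm (mem_center_iff.1 h1 _).symm, hl, pow_mul, h.cp _ h1, h.cp _ hc]
  simp only [← zpow_natCast _ p, ← zpow_mul, mul_comm _ (p : ℤ)]
  simp only [zpow_mul, zpow_natCast, hg, hw, one_zpow, one_pow, mul_one]

theorem GenES.dihedral [Finite G] (h : GenES 2 z g w) (hw : w ^ 2 = 1) {E : Subgroup G}
    (hgE : g ∈ E) (hwE : w ∈ E) (hE : Nat.card E = 2 ^ 3) : Nonempty (E ≃* DihedralGroup 4) := by
  have hz : ∀ x ∈ zpowers z, x ≠ 1 → x = z := by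
    rintro _ ⟨k, rfl⟩ h1
    have h2 := h.cp z h.cen
    obtain ⟨m, rfl | rfl⟩ := Int.even_or_odd' k
    · exact absurd (by simp only [zpow_mul, zpow_ofNat, h2, one_zpow]) h1
    · simp only [zpow_add, zpow_mul, zpow_ofNat, h2, one_zpow, one_mul, pow_one]
  have hz1 : z ≠ 1 := fun h1 => by simpa [h1] using h.ord
  have key : ∀ a ∈ E, a ^ 2 = z → a * w ≠ w * a → Nonempty (E ≃* DihedralGroup 4) := by
    intro a ha h1 h2
    have h3 := hz _ (h.comm w a) fun h3 => h2 (commutatorElement_eq_one_iff_mul_comm.1 h3).symm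
    have h4 : a ^ 2 ^ (1 + 1) = 1 := by rw [pow_succ, pow_mul, pow_one, h1, h.cp z h.cen]
    refine H2.nonempty_equiv_dihedralGroup (a := ⟨a, ha⟩) (t := ⟨w, hwE⟩)
      (by rw [orderOf_mk]; exact orderOf_eq_prime_pow (by rwa [pow_one, h1]) h4) hE
      (fun ⟨k, hk⟩ => h2 ?_) (Subtype.ext ?_) (Subtype.ext ((sq w).symm.trans hw))
    · rw [← show a ^ k = w from congrArg Subtype.val hk]; group
    · rw [mul_inv_eq_iff_eq_mul, ← h1] at h3
      simp only [coe_mul, coe_inv, h3, eq_inv_iff_mul_eq_one, ← h4]; group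
  by_cases hg : g ^ 2 = 1
  · refine key (g * w) (mul_mem hgE hwE) (hz _ (h.pow _) fun h1 => h.ne ?_) fun h1 => h.ne ?_
    · rw [sq] at h1 hg hw
      rw [eq_inv_of_mul_eq_one_left h1, mul_inv_rev, ← eq_inv_of_mul_eq_one_left hg,
        ← eq_inv_of_mul_eq_one_left hw]
    · exact mul_right_cancel (h1.trans (mul_assoc _ _ _).symm)
  · exact key g hgE (hz _ (h.pow g) hg) h.ne

end Cfsg.Agent.H8
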