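import Mathlib
import Cfsg.Agent.H8.MetaGrp
import Cfsg.Prelude.Def_OddOrderLocal

/-!
Recognition of dihedral, quaternion and semidihedral groups among metacyclic `2`-groups.
-/

set_option autoImplicit false

namespace Cfsg.Agent.H8

open Subgroup H2

variable {G : Type*} [Group G]

/-- Dihedral, quaternion or semidihedral of order at least eight, by generators and relations. -/
def MaxCl (G : Type*) [Group G] : Prop :=
  ∃ (a t : G) (e : ℕ), orderOf a = 2 ^ (e + 2) ∧ Nat.card G = 2 ^ (e + 3) ∧ t ∉ zpowers a ∧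
    ((t * a * t⁻¹ = a⁻¹ ∧ t * t = 1) ∨ (t * a * t⁻¹ = a⁻¹ ∧ t * t = a ^ 2 ^ (e + 1)) ∨
      (1 ≤ e ∧ t * a * t⁻¹ = a ^ (2 ^ (e + 1) - 1) ∧ t * t = 1))

theorem MaxCl.cases [Finite G] (h : MaxCl G) :
    (∃ n, 2 ≤ n ∧ Nonempty (G ≃* DihedralGroup n)) ∨ IsQuasiDihedral G ∨
      ∃ n, 2 ≤ n ∧ Nonempty (G ≃* QuaternionGroup n) := by
  obtain ⟨a, t, e, ha, hG, ht, h | h | h⟩ := h
  · exact Or.inl ⟨_, (show 2 ^ 1 ≤ _ from Nat.pow_le_pow_right two_pos (by omega)),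
      nonempty_equiv_dihedralGroup ha (by rw [hG]; ring) ht h.1 h.2⟩
  · exact Or.inr (Or.inr ⟨2 ^ (e + 1), (show 2 ^ 1 ≤ _ from Nat.pow_le_pow_right two_pos (by omega)),
      nonempty_equiv_quaternionGroup (by positivity) (by rw [ha]; ring) (by rw [hG]; ring) ht h.1 h.2⟩)
  · refine Or.inr (Or.inl ⟨e + 2, by omega, hG, a, t, ha, ?_, h.2.1⟩)
    exact orderOf_eq_prime (by rw [sq, h.2.2]) (by rintro rfl; exact ht (one_mem _))

theorem maxCl_of_index_two [Finite G] (hG : IsPGroup 2 G) {a g₀ : G} {r : ℕ}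
    (hr : g₀ * a * g₀⁻¹ = a ^ r) (hr4 : r % 4 = 3) (ha : a ^ 2 ≠ 1) (hg₀ : g₀ ∉ zpowers a)
    (hidx : (zpowers a).index = 2) : MaxCl G := by
  classical
  have hAn : (zpowers a).Normal := normal_of_index_eq_two hidx
  have hsq : ∀ g : G, g ^ 2 ∈ zpowers a := sq_mem_of_index_two hidx
  obtain ⟨k, hk⟩ := IsPGroup.iff_orderOf.1 hG a
  obtain ⟨m, rfl⟩ : ∃ m, r = 4 * m + 3 := ⟨r / 4, by omega⟩
  have hk2 : 2 ≤ k := by
    by_contra hlt
    apply ha
    rw [← orderOf_dvd_iff_pow_eq_one, hk]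
    simpa using pow_dvd_pow 2 (show k ≤ 1 by omega)
  obtain ⟨e, rfl⟩ : ∃ e, k = e + 2 := ⟨k - 2, by omega⟩
  have hcard : Nat.card G = 2 ^ (e + 3) := by
    rw [← (zpowers a).card_mul_index, hidx, Nat.card_zpowers, hk]; ring
  have hfix : ∀ c ∈ zpowers a, g₀ * c * g₀⁻¹ = c → c ^ 2 = 1 := by
    intro c hc hgc
    rw [conj_eq_pow_of_mem_zpowers hr hc, show 4 * m + 3 = 2 * (2 * m + 1) + 1 by ring, pow_succ,
      mul_eq_right, pow_mul] at hgc
    exact (hG.powEquiv' (n := 2 * m + 1) (by omega)).injective (by simpa using hgc)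
  set z := a ^ 2 ^ (e + 1) with hz
  have hzo : orderOf z = 2 := by
    rw [hz, orderOf_pow' _ (by positivity), hk, Nat.gcd_eq_right (pow_dvd_pow 2 (by omega)),
      pow_succ' 2 (e + 1), Nat.mul_div_cancel _ (by positivity)]
  have hzz : z * z = 1 := by rw [← sq, ← hzo, pow_orderOf_eq_one]
  have hinv : ∀ c ∈ zpowers a, c ^ 2 = 1 → c = 1 ∨ c = z := by
    intro c hc hc2
    have h1 := mem_zpowers_of_mem_cyclic (pow_mem (mem_zpowers a) (2 ^ (e + 1))) hc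
      (by rw [← hz, hzo]; exact hc2)
    rw [← hz] at h1
    obtain ⟨j, hj, rfl⟩ := (mem_zpowers_iff_mem_range_orderOf.1 h1) |> Finset.mem_image.1
    rw [hzo, Finset.mem_range] at hj
    interval_cases j <;> simp
  have ht2 := hinv _ (hsq g₀) (hfix _ (hsq g₀) (by group))
  have hag : a * (g₀ * a * g₀⁻¹) ∈ zpowers a :=
    mul_mem (mem_zpowers a) (hAn.conj_mem _ (mem_zpowers a) _)
  have hN := hinv _ hag (hfix _ hag (by
    have h1 : g₀ ^ 2 * a = a * g₀ ^ 2 := (comm_of_mem_zpowers rfl (hsq g₀)).symm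
    have h2 : (g₀ * a * g₀⁻¹) * a = a * (g₀ * a * g₀⁻¹) := by rw [hr]; group
    calc g₀ * (a * (g₀ * a * g₀⁻¹)) * g₀⁻¹ = (g₀ * a * g₀⁻¹) * (g₀ ^ 2 * a) * (g₀ ^ 2)⁻¹ := by group
      _ = _ := by rw [h1, ← h2]; group))
  rw [sq] at ht2
  rcases hN with hN | hN
  · have h1 : g₀ * a * g₀⁻¹ = a⁻¹ := eq_inv_of_mul_eq_one_right hN
    exact ⟨a, g₀, e, hk, hcard, hg₀, ht2.imp (fun h => ⟨h1, h⟩) fun h => Or.inl ⟨h1, h⟩⟩
  · have h1 : g₀ * a * g₀⁻¹ = a ^ (2 ^ (e + 1) - 1) := by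
      apply mul_left_cancel (a := a)
      rw [hN, hz, ← pow_succ', Nat.sub_add_cancel Nat.one_le_two_pow]
    have he : 1 ≤ e := by
      by_contra he
      obtain rfl : e = 0 := by omega
      exact ha (hfix a (mem_zpowers a) (by simpa using h1))
    rcases ht2 with ht2 | ht2
    · exact ⟨a, g₀, e, hk, hcard, hg₀, Or.inr (Or.inr ⟨he, h1, ht2⟩)⟩
    · refine ⟨a, a * g₀, e, hk, hcard, fun h => hg₀ ((mul_mem_cancel_left (mem_zpowers a)).1 h),
        Or.inr (Or.inr ⟨he, ?_, ?_⟩)⟩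
      · calc a * g₀ * a * (a * g₀)⁻¹ = a * (g₀ * a * g₀⁻¹) * a⁻¹ := by group
          _ = _ := by rw [h1]; group
      · calc a * g₀ * (a * g₀) = a * (g₀ * a * g₀⁻¹) * (g₀ * g₀) := by group
          _ = 1 := by rw [hN, ht2, hzz]

theorem maxCl_of_inverts [Finite G] (hG : IsPGroup 2 G) {a b y w : G} [hn : (zpowers a).Normal]
    (hab : ∀ g : G, ∃ j : ℤ, g * (b ^ j)⁻¹ ∈ zpowers a) (hw : w ∈ zpowers a) (hw2 : w ^ 2 ≠ 1)
    (hy : y * w * y⁻¹ = w⁻¹) (hy2 : y ^ 2 ∈ zpowers a) : MaxCl G := by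
  have hex : ∀ g : G, ∃ r : ℕ, g * a * g⁻¹ = a ^ r := fun g =>
    exists_conj_eq_pow (le_normalizer_of_normal (mem_top g))
  have ha : a ^ 2 ≠ 1 := fun h => hw2 (by
    obtain ⟨k, rfl⟩ := hw
    rw [← zpow_natCast, ← zpow_mul, mul_comm, zpow_mul, zpow_natCast, h, one_zpow])
  have ha1 : a ≠ 1 := by rintro rfl; simp at ha
  have h3 : ∀ r : ℕ, y * a * y⁻¹ = a ^ r → r % 4 = 3 := fun r hr => by
    have h4 : r % 2 = 1 := conj_exponent_modEq_one hG ha1 hr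
    by_contra h
    obtain ⟨m, rfl⟩ : ∃ m, r = 4 * m + 1 := ⟨r / 4, by omega⟩
    rw [conj_eq_pow_of_mem_zpowers hr hw, eq_inv_iff_mul_eq_one, ← pow_succ,
      show 4 * m + 1 + 1 = 2 * (2 * m + 1) by ring, pow_mul] at hy
    exact hw2 ((hG.powEquiv' (n := 2 * m + 1) (by omega)).injective (by simpa using hy))
  have hsq : ∀ c ∈ zpowers a, ∀ g : G, y ≠ c * g ^ 2 := by
    rintro c hc g rfl
    obtain ⟨r, hr⟩ := hex g
    have h4 : r % 2 = 1 := conj_exponent_modEq_one hG ha1 hr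
    have h5 := h3 (r ^ 2) (by
      rw [show c * g ^ 2 * a * (c * g ^ 2)⁻¹ = c * (g ^ 2 * a * (g ^ 2)⁻¹) * c⁻¹ by group,
        conj_pow_eq_pow_pow hr 2, ← comm_of_mem_zpowers (t := a ^ r ^ 2) (by group) hc]; group)
    obtain ⟨m, rfl⟩ : ∃ m, r = 2 * m + 1 := ⟨r / 2, by omega⟩
    rw [show (2 * m + 1) ^ 2 = 1 + 4 * (m ^ 2 + m) by ring] at h5
    omega
  obtain ⟨r, hr⟩ := hex y
  have hya : y ∉ zpowers a := fun h => hsq y h 1 (by simp)
  refine maxCl_of_index_two hG hr (h3 r hr) ha hya ?_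
  obtain ⟨j, hj⟩ := hab y
  have hodd : ¬ ((2 : ℕ) : ℤ) ∣ j := by
    rintro ⟨k, rfl⟩
    exact hsq _ hj (b ^ k) (by rw [← zpow_natCast, ← zpow_mul, mul_comm k]; simp)
  have hb2 : b ^ 2 ∈ zpowers a := by
    obtain ⟨k, hk⟩ := hG (b ^ 2)
    refine mem_of_zpow_mem_of_not_dvd hodd ?_ (hk ▸ one_mem _)
    rw [← QuotientGroup.eq_one_iff] at hy2 hj ⊢
    rw [QuotientGroup.mk_mul, QuotientGroup.mk_inv, mul_inv_eq_one] at hj
    rw [← hy2, QuotientGroup.mk_pow, hj, ← QuotientGroup.mk_pow]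
    simp only [← zpow_natCast, ← zpow_mul, mul_comm]
  have h1 : (zpowers a).index ∣ 2 := by
    rw [← relIndex_top_right]
    refine relIndex_dvd_of_le_zpowers_sup hb2 fun g _ => ?_
    obtain ⟨k, hk⟩ := hab g
    simpa using mul_mem (mem_sup_right hk) (mem_sup_left (zpow_mem (mem_zpowers b) k))
  exact ((Nat.dvd_prime Nat.prime_two).1 h1).resolve_left fun h => hya (index_eq_one.1 h ▸ mem_top y)

theorem exists_gen_of_isMetacyclic (h : IsMetacyclic G) :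
    ∃ a b : G, (zpowers a).Normal ∧ ∀ g : G, ∃ j : ℤ, g * (b ^ j)⁻¹ ∈ zpowers a := by
  obtain ⟨N, hN, h1, ⟨b, hb⟩⟩ := h
  obtain ⟨a, rfl⟩ := (Subgroup.isCyclic_iff_exists_zpowers_eq_top N).1 h1
  obtain ⟨b, rfl⟩ := QuotientGroup.mk_surjective b
  refine ⟨a, b, hN, fun g => ?_⟩
  obtain ⟨j, hj⟩ := hb g
  refine ⟨j, ?_⟩
  rw [← QuotientGroup.eq_one_iff, QuotientGroup.mk_mul, QuotientGroup.mk_inv, QuotientGroup.mk_zpow,
    ← hj, mul_inv_cancel]

theorem exists_gen_subgroup {N : Subgroup G} [N.Normal] {b : G}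
    (h : ∀ g : G, ∃ j : ℤ, g * (b ^ j)⁻¹ ∈ N) (Q : Subgroup G) :
    ∃ y ∈ Q, ∀ g ∈ Q, ∃ k : ℤ, g * (y ^ k)⁻¹ ∈ N := by
  haveI : IsCyclic (G ⧸ N) := ⟨⟨b, fun g => by
    obtain ⟨g, rfl⟩ := QuotientGroup.mk_surjective g
    obtain ⟨j, hj⟩ := h g
    rw [← QuotientGroup.eq_one_iff, QuotientGroup.mk_mul, QuotientGroup.mk_inv, mul_inv_eq_one] at hj
    exact ⟨j, hj.symm⟩⟩⟩
  obtain ⟨c, hc⟩ := (Subgroup.isCyclic_iff_exists_zpowers_eq_top
    (Q.map (QuotientGroup.mk' N))).1 inferInstance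
  obtain ⟨y, hy, rfl⟩ := hc.le (mem_zpowers c)
  refine ⟨y, hy, fun g hg => ?_⟩
  obtain ⟨k, hk⟩ := hc.ge (mem_map_of_mem _ hg)
  refine ⟨k, ?_⟩
  rw [← QuotientGroup.eq_one_iff, QuotientGroup.mk_mul, QuotientGroup.mk_inv, mul_inv_eq_one]
  exact hk.symm

/-- A metacyclic `p`-group has generators with the generator of the cyclic normal subgroup outside
the Frattini subgroup, unless it is cyclic. -/
theorem isCyclic_of_mem_frattini [Finite G] {a b : G}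
    (hab : ∀ g : G, ∃ j : ℤ, g * (b ^ j)⁻¹ ∈ zpowers a) (ha : a ∈ frattini G) : IsCyclic G := by
  refine isCyclic_iff_exists_zpowers_eq_top.2 ⟨b, frattini_nongenerating (eq_top_iff.2 fun g _ => ?_)⟩
  obtain ⟨k, hk⟩ := hab g
  simpa using mul_mem (mem_sup_right (zpowers_le.2 ha hk)) (mem_sup_left (zpow_mem (mem_zpowers b) k))

/-- An abelian two-generator `p`-group without invariant flag is cyclic or homocyclic. -/
theorem NoFlag.homocyclic [Finite G] {p : ℕ} [hp : Fact p.Prime] {A : Subgroup (MulAut G)}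
    (h : NoFlag A) (hG : IsPGroup p G) (hc : ∀ a b : G, a * b = b * a) {x y : G}
    (hxy : ∀ g : G, ∃ j : ℤ, g * (y ^ j)⁻¹ ∈ zpowers x) (hn : ¬ IsCyclic G) :
    ∃ n, 0 < n ∧ Nonempty (G ≃* Multiplicative (ZMod (p ^ n)) × Multiplicative (ZMod (p ^ n))) := by
  letI : CommGroup G := { (inferInstance : Group G) with mul_comm := hc }
  have hx : x ∉ frattini G := fun hx => hn (isCyclic_of_mem_frattini hxy hx)
  obtain ⟨n, hxn⟩ := IsPGroup.iff_orderOf.1 hG x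
  have hn0 : 0 < n := Nat.pos_of_ne_zero fun h0 => hx (by
    rw [h0, pow_zero, orderOf_eq_one_iff] at hxn; exact hxn ▸ one_mem _)
  have hexp : ∀ g : G, g ^ p ^ n = 1 := h.pow_eq_one hc hx (hxn ▸ pow_orderOf_eq_one x)
  have key : ∀ i j : ℤ, x ^ i * y ^ j = 1 → ((p ^ n : ℕ) : ℤ) ∣ i ∧ ((p ^ n : ℕ) : ℤ) ∣ j := by
    intro i j hij
    suffices H : ∀ k ≤ n, ((p ^ k : ℕ) : ℤ) ∣ i ∧ ((p ^ k : ℕ) : ℤ) ∣ j from H n le_rfl
    intro k hk
    induction k with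
    | zero => simp
    | succ k ih =>
      obtain ⟨⟨i, rfl⟩, ⟨j, rfl⟩⟩ := ih (by omega)
      have h1 : (x ^ i * y ^ j) ^ p ^ k = 1 := by
        rw [← hij, mul_pow]; simp only [← zpow_natCast, ← zpow_mul, mul_comm]
      have h2 : x ^ i * y ^ j ∈ frattini G := by
        by_contra h2
        have := orderOf_dvd_of_pow_eq_one (h.pow_eq_one hc h2 h1 x)
        rw [hxn, Nat.pow_dvd_pow_iff_le_right hp.out.one_lt] at this
        omega
      have hy : ∀ i : ℤ, y * x ^ i ∉ frattini G := fun i hi => hn (isCyclic_of_mem_frattini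
        (a := y * x ^ i) (b := x) (fun g => by
          obtain ⟨j, l, hl⟩ := hxy g
          refine ⟨l - i * j, j, ?_⟩
          have : g = x ^ l * y ^ j := by rw [show x ^ l = _ from hl]; simp
          simp only [this, mul_zpow, ← zpow_mul, zpow_sub, mul_inv_rev, inv_inv]
          rw [mul_mul_mul_comm, mul_comm (y ^ j), ← mul_assoc, mul_assoc (x ^ l),
            mul_inv_cancel_comm]) hi)
      have hF : ∀ (g : G) (l : ℤ), (p : ℤ) ∣ l → g ^ l ∈ frattini G := fun g l hl =>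
        zpowers_le.2 (pow_mem_frattini hG g) (zpow_mem_zpowers_pow hl)
      have hj : (p : ℤ) ∣ j := by
        by_contra hj
        obtain ⟨u, v, huv⟩ := (Nat.prime_iff_prime_int.1 hp.out).coprime_iff_not_dvd.2 hj
        refine hy (i * v) ?_
        have := mul_mem (zpow_mem h2 v) (hF y (u * p) (Dvd.intro_left _ rfl))
        rwa [mul_zpow, ← zpow_mul, ← zpow_mul, mul_assoc, ← zpow_add, add_comm, mul_comm j, huv,
          zpow_one, mul_comm] at this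
      have hi : (p : ℤ) ∣ i := by
        by_contra hi
        exact hx (mem_of_zpow_mem_of_not_dvd hi ((mul_mem_cancel_right (hF y j hj)).1 h2)
          (hexp x ▸ one_mem _))
      rw [pow_succ, Nat.cast_mul]
      exact ⟨mul_dvd_mul_left _ hi, mul_dvd_mul_left _ hj⟩
  haveI : NeZero (p ^ n) := ⟨pow_ne_zero _ hp.out.ne_zero⟩
  let f : G → Multiplicative (ZMod (p ^ n)) →* G := fun g => AddMonoidHom.toMultiplicativeLeft
    (ZMod.lift (p ^ n) ⟨zmultiplesHom (Additive G) (Additive.ofMul g), by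
      rw [zmultiplesHom_apply, natCast_zsmul, ← ofMul_pow, hexp, ofMul_one]⟩)
  have hf : ∀ g (i : ℤ), f g (Multiplicative.ofAdd (i : ZMod (p ^ n))) = g ^ i := fun g i => by
    simp [f, ZMod.lift_coe]
  refine ⟨n, hn0, ⟨(MulEquiv.ofBijective ((f x).coprod (f y)) ⟨?_, fun g => ?_⟩).symm⟩⟩
  · rw [injective_iff_map_eq_one]
    rintro ⟨i, j⟩ hij
    obtain ⟨i, rfl⟩ := (Multiplicative.ofAdd.surjective.comp (ZMod.intCast_surjective)) i
    obtain ⟨j, rfl⟩ := (Multiplicative.ofAdd.surjective.comp (ZMod.intCast_surjective)) j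
    simp only [Function.comp, MonoidHom.coprod_apply, hf] at hij
    obtain ⟨h1, h2⟩ := key i j hij
    simp [(ZMod.intCast_zmod_eq_zero_iff_dvd _ _).2 h1, (ZMod.intCast_zmod_eq_zero_iff_dvd _ _).2 h2]
  · obtain ⟨j, l, hl⟩ := hxy g
    refine ⟨(Multiplicative.ofAdd (l : ZMod _), Multiplicative.ofAdd (j : ZMod _)), ?_⟩
    rw [MonoidHom.coprod_apply, hf, hf, show x ^ l = _ from hl]; simp

end Cfsg.Agent.H8
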