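import Mathlib
import Cfsg.Agent.H8.Tate
import Cfsg.Agent.H8.Flag
import Cfsg.Agent.H7.Crit
import Cfsg.Agent.H9.Inv

/-!
Strongly closed subgroups that are not normal.
-/

set_option autoImplicit false

namespace Cfsg.Agent.H8

open Equiv Cfsg.Fus Cfsg.FusionSystem

variable {Ω : Type*} [Group Ω] {S P Q : Subgroup Ω} {F : FusionSystem S} {p : ℕ}

/-- The obstruction to normality of a strongly closed subgroup `P`. -/
structure Bad (F : FusionSystem S) (p : ℕ) (P Q : Subgroup Ω) : Prop where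
  lt : Q < P
  fn : F.IsFullyNormalized Q
  cent : centralizerIn P Q ≤ Q
  rad : ∀ g ∈ P, g ∈ Subgroup.normalizer (Q : Set Ω) → cj g ∈ F.opStab p Q → g ∈ Q

theorem closed_ext (F : FusionSystem S) (P : Subgroup Ω) :
    Closed F (fun Q σ => ∃ α, F.Iso P P α ∧ ∀ x ∈ Q, α x = σ x) where
  congr := fun _ ⟨α, h1, h2⟩ h => ⟨α, h1, fun x hx => (h2 x hx).trans (h x hx).symm⟩
  mono := fun _ ⟨α, h1, h2⟩ h => ⟨α, h1, fun x hx => h2 x (h hx)⟩
  mul := fun _ _ ⟨α, h1, h2⟩ ⟨β, h3, h4⟩ h => ⟨β * α, h1.trans h3, fun x hx => by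
    rw [Perm.mul_apply, h2 x hx, h4 _ (h x hx), Perm.mul_apply]⟩
  inv := fun hσ ⟨α, h1, h2⟩ => ⟨α⁻¹, h1.symm, fun y hy => by
    obtain ⟨x, hx, rfl⟩ := hσ.mem_img.1 hy
    rw [perm_inv_apply_self, ← h2 x hx, perm_inv_apply_self]⟩

theorem exists_bad [Fact p.Prime] [Finite S] (hP : F.StronglyClosed P) (hF : F.IsSaturated p)
    (hS : IsPGroup p S) (h : ¬ F.IsNormal P) : ∃ Q, Bad F p P Q := by
  by_contra hne
  refine h (hF.isNormal_of_ext hS hP.le fun Q hQ σ hσ => hP.ind hF hS (closed_ext F P)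
    (𝒱 := fun _ => True) (fun _ _ _ _ _ => trivial) (fun _ _ _ _ _ => trivial)
    (fun R σ hR _ hn hc hσ ih => ?_) Q σ hQ trivial hσ)
  rcases hR.eq_or_lt with rfl | hlt
  · exact ⟨σ, hσ, fun _ _ => rfl⟩
  have h1 : ¬ kN P R (F.opStab p R) ≤ R := fun h1 =>
    hne ⟨R, hlt, hn, hc, fun g hg h2 h3 => h1 (mem_kN.2 ⟨hg, h2, h3⟩)⟩
  obtain ⟨τ, hτ, h2⟩ := (hn.isReceptive hF hS).exists_ext_of_le hσ (T := kN P R (F.opStab p R))
    (fun g hg => ⟨hP.le (mem_kN.1 hg).1, (mem_kN.1 hg).2.1⟩)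
    fun g hg => (hn.isFullyAutomized hF hS).opStab_le (hσ.conj_mem_opStab (mem_kN.1 hg).2.2)
  haveI := hτ.finite
  obtain ⟨α, h3, h4⟩ := ih _ τ (sup_le hR (kN_le _ _ _)) trivial
    (card_lt_of_lt_of_finite (left_lt_sup.2 h1)) hτ
  exact ⟨α, h3, fun x hx => (h4 x (Subgroup.mem_sup_left hx)).trans (h2 x hx)⟩

theorem Bad.exists_elt [Fact p.Prime] [Finite S] (h : Bad F p P Q) (hP : P ≤ S)
    (hS : IsPGroup p S) : ∃ g ∈ P, g ∈ Subgroup.normalizer (Q : Set Ω) ∧ g ∉ Q ∧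
      cj g ∉ F.opStab p Q := by
  haveI := finite_of_le hP
  obtain ⟨g, hg, h1⟩ := SetLike.exists_of_lt (lt_normalizerIn (isPGroup_of_le hS hP) h.lt)
  exact ⟨g, hg.1, hg.2, h1, fun h2 => h1 (h.rad g hg.1 hg.2 h2)⟩

theorem exists_ext_elt [Finite S] {R : Subgroup Ω} (hr : F.IsReceptive R) {φ : Perm Ω}
    (hφ : F.Iso Q R φ) {g : Ω} (hg : g ∈ S) (hn : g ∈ Subgroup.normalizer (Q : Set Ω))
    (hc : φ * cj g * φ⁻¹ ∈ innS S R) :
    ∃ τ : Perm Ω, F.IsMap (Q ⊔ Subgroup.zpowers g) τ ∧ ∀ x ∈ Q, τ x = φ x :=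
  hr.exists_ext_of_le hφ (Subgroup.zpowers_le.2 ⟨hg, hn⟩) (by
    rintro _ ⟨k, rfl⟩
    rw [map_zpow, ← conj_zpow]
    exact Subgroup.zpow_mem _ hc k)

/-- `Aut_P(Q)` is strongly closed in `Aut_S(Q)`. -/
theorem exists_conj_elt_of_sc [Finite S] (hP : F.StronglyClosed P) (hr : F.IsReceptive Q)
    {φ : Perm Ω} (hφ : F.Iso Q Q φ) {g : Ω} (hg : g ∈ P) (hn : g ∈ Subgroup.normalizer (Q : Set Ω))
    (hc : φ * cj g * φ⁻¹ ∈ innS S Q) :
    ∃ g' ∈ P, ∀ x ∈ Q, φ (g * x * g⁻¹) = g' * φ x * g'⁻¹ := by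
  obtain ⟨τ, hτ, h1⟩ := exists_ext_elt hr hφ (hP.le hg) hn hc
  have h2 := Subgroup.mem_sup_right (S := Q) (Subgroup.mem_zpowers g)
  exact ⟨τ g, hP.mem hτ h2 hg, fun x hx => by
    rw [← h1 _ (conj_mem_of_mem_normalizer hn hx), ← h1 x hx,
      hτ.homOn.map_conj h2 (Subgroup.mem_sup_left hx)]⟩

theorem mem_opStab_iff {σ : Perm Ω} : σ ∈ F.opStab p Q ↔ σ ∈ autStab Q ∧
    resAut Q σ ∈ (pCore p (F.autGroup Q)).map (F.autGroup Q).subtype := mem_liftAut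

theorem mem_opStab_of_stab [Fact p.Prime] [Finite S] {σ : Perm Ω} (hσ : QEl F p Q σ)
    (h : haveI := hσ.iso.isMap.finite
      Stab p (F.autGroup Q) (pElts p (F.autGroup Q)) ⊤) : σ ∈ F.opStab p Q := by
  haveI := hσ.iso.isMap.finite
  obtain ⟨h1, k, hk⟩ := hσ
  exact mem_opStab_iff.2 ⟨h1.mem_autStab, h.top_pCore _ ⟨h1.resAut_mem, k,
    (resAut_pow_eq_one_iff h1.mem_autStab _).2 hk⟩⟩

theorem aInv_subgroupOf (hQ : Q ≤ S) {M : Subgroup Ω} (hM : F.AInv Q M) :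
    ∀ a ∈ F.autGroup Q, ∀ y ∈ M.subgroupOf Q, a y ∈ M.subgroupOf Q := fun a ha y hy => by
  have := hM _ ((mem_autGroup_iff hQ).1 ha) y hy
  rwa [extAut_coe] at this

/-- An automorphism trivial on the Frattini quotient lies in `O_p`. -/
theorem mem_opStab_of_frattini [Fact p.Prime] [Finite S] (hS : IsPGroup p S) {σ : Perm Ω}
    (hσ : F.Iso Q Q σ) (h : ∀ x ∈ Q, x⁻¹ * σ x ∈ (frattini Q).map Q.subtype) :
    σ ∈ F.opStab p Q := by
  haveI := hσ.isMap.finite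
  refine mem_opStab_iff.2 ⟨hσ.mem_autStab, Stab.top_pCore (X := {resAut Q σ})
    ((Stab.base (Set.singleton_subset_iff.2 hσ.resAut_mem) le_rfl).step
      (isPGroup_of_le hS hσ.le_left) (char_inv _) (char_inv _) ?_) _ rfl⟩
  rintro _ rfl x -
  obtain ⟨y, hy, h1⟩ := h x x.2
  rwa [show x⁻¹ * resAut Q σ x = y from Subtype.ext (by
    rw [Subgroup.coe_mul, resAut_apply hσ.mem_autStab]; exact h1.symm)]

theorem exists_pow_eq_of_mem_zpowers [hp : Fact p.Prime] {z c d : Ω} (hz : z ^ p = 1)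
    (hc : c ∈ Subgroup.zpowers z) (hc1 : c ≠ 1) (hd : d ∈ Subgroup.zpowers z) :
    ∃ i : ℕ, c ^ i = d := by
  have hz1 : z ≠ 1 := fun h => hc1 (by simpa [h] using hc)
  have hcp : c ^ p = 1 := by
    obtain ⟨k, rfl⟩ := hc
    rw [← zpow_natCast, ← zpow_mul, mul_comm, zpow_mul, zpow_natCast, hz, one_zpow]
  haveI : Finite (Subgroup.zpowers z) :=
    Nat.finite_of_card_ne_zero (by rw [card_zpowers_eq_of_pow hz1 hz]; exact hp.out.ne_zero)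
  have h1 : Subgroup.zpowers c = Subgroup.zpowers z := Subgroup.eq_of_le_of_card_ge
    (Subgroup.zpowers_le.2 hc) (by rw [card_zpowers_eq_of_pow hz1 hz, card_zpowers_eq_of_pow hc1 hcp])
  exact (isOfFinOrder_iff_pow_eq_one.2 ⟨p, hp.out.pos, hcp⟩).mem_powers_iff_mem_zpowers.2 (h1.ge hd)

/-- Normalising a transvection. -/
theorem exists_pow_transvection [Fact p.Prime] {z y d : Ω} {t : Perm Ω} (hz : z ^ p = 1)
    (hzQ : z ∈ Q) (ht : t ∈ trivOn (Subgroup.zpowers z) Q) (htz : t z = z) (hy : y ∈ Q)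
    (h : t y ≠ y) (hd : d ∈ Subgroup.zpowers z) (hd1 : d ≠ 1) :
    ∃ i : ℕ, ¬ p ∣ i ∧ (t ^ i) y = y * d := by
  obtain ⟨i, hi⟩ := exists_pow_eq_of_mem_zpowers hz (ht.2 y hy)
    (fun h1 => h (inv_mul_eq_one.1 h1).symm) hd
  refine ⟨i, ?_, ?_⟩
  · rintro ⟨j, rfl⟩
    obtain ⟨k, hk⟩ := ht.2 y hy
    refine hd1 ?_
    rw [← hi, ← hk, pow_mul, ← zpow_natCast _ p, ← zpow_mul, mul_comm, zpow_mul, zpow_natCast, hz,
      one_zpow, one_pow]
  · rw [pow_apply_of_trivOn ht _ hy, hi]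
    rintro _ ⟨k, rfl⟩ -
    rw [ht.1.1.map_zpow hzQ, htz]

theorem conj_mem_trivOn_zpowers {z : Ω} {t γ : Perm Ω} (hγ : γ ∈ autStab Q) (hzQ : z ∈ Q)
    (ht : t ∈ trivOn (Subgroup.zpowers z) Q) :
    γ * t * γ⁻¹ ∈ trivOn (Subgroup.zpowers (γ z)) Q := by
  refine ⟨Subgroup.mul_mem _ (Subgroup.mul_mem _ hγ ht.1) (Subgroup.inv_mem _ hγ), fun x hx => ?_⟩
  have h1 : γ⁻¹ x ∈ Q := ((setStab Q).inv_mem hγ.2 x).2 hx
  obtain ⟨k, hk⟩ := ht.2 _ h1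
  refine ⟨k, ?_⟩
  change γ z ^ k = _
  rw [← hγ.1.map_zpow hzQ, show z ^ k = _ from hk, hγ.1 (Q.inv_mem h1) ((ht.1.2 _).2 h1),
    hγ.1.map_inv h1]
  simp

/-- The central involution of the `SL₂(p)` generated by two opposite transvections. -/
theorem exists_inverting {z z' : Ω} {u v : Perm Ω} (hc : ∀ x ∈ Q, ∀ y ∈ Q, x * y = y * x)
    (hz : z ∈ Q) (hz' : z' ∈ Q) (hu : u ∈ trivOn (Subgroup.zpowers z) Q)
    (hv : v ∈ trivOn (Subgroup.zpowers z') Q) (h1 : u z = z) (h2 : u z' = z' * z) (h3 : v z' = z')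
    (h4 : v z = z * z'⁻¹) : (u * v * u * (u * v * u)) z = z⁻¹ ∧
      (u * v * u * (u * v * u)) z' = z'⁻¹ ∧
      ∀ x ∈ Q, (u * v * u * (u * v * u)) (u x) = u ((u * v * u * (u * v * u)) x) := by
  have hw : u * v * u ∈ autStab Q := Subgroup.mul_mem _ (Subgroup.mul_mem _ hu.1 hv.1) hu.1
  have czz : Commute z z' := hc z hz z' hz'
  have w1 : (u * v * u) z = z'⁻¹ := by
    simp only [Perm.mul_apply]
    rw [h1, h4, hu.1.1 hz (Q.inv_mem hz'), hu.1.1.map_inv hz', h1, h2]; group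
  have w2 : (u * v * u) z' = z := by
    simp only [Perm.mul_apply]
    rw [h2, hv.1.1 hz' hz, h3, h4, ← mul_assoc, ← czz.eq, mul_inv_cancel_right, h1]
  set w := u * v * u with hw'
  have t1 : (w * w) z = z⁻¹ := by rw [Perm.mul_apply, w1, hw.1.map_inv hz', w2]
  have t2 : (w * w) z' = z'⁻¹ := by rw [Perm.mul_apply, w2, w1]
  have hτ : w * w ∈ autStab Q := Subgroup.mul_mem _ hw hw
  refine ⟨t1, t2, fun x hx => ?_⟩
  obtain ⟨k, hk⟩ := hu.2 x hx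
  have hy : x * z' ^ (-k) ∈ Q := Q.mul_mem hx (Q.zpow_mem hz' _)
  have h5 : u (x * z' ^ (-k)) = x * z' ^ (-k) := by
    rw [hu.1.1 hx (Q.zpow_mem hz' _), hu.1.1.map_zpow hz', h2, czz.symm.mul_zpow,
      show u x = x * z ^ k by rw [show z ^ k = _ from hk]; group,
      (czz.symm.zpow_zpow (-k) (-k)).eq]
    group
  obtain ⟨m, hm⟩ := hv.2 _ hy
  set y := x * z' ^ (-k) with hy'
  have h6 : w y = y * (z' * z) ^ m := by
    rw [hw', Perm.mul_apply, Perm.mul_apply, h5,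
      show v y = y * z' ^ m by rw [show z' ^ m = _ from hm]; group,
      hu.1.1 hy (Q.zpow_mem hz' _), hu.1.1.map_zpow hz', h5, h2]
  have h7 : (w * w) y = y * (z * z) ^ m := by
    rw [Perm.mul_apply, h6, hw.1 hy (Q.zpow_mem (Q.mul_mem hz' hz) _),
      hw.1.map_zpow (Q.mul_mem hz' hz), hw.1 hz' hz, w1, w2, h6, mul_assoc,
      ← Commute.mul_zpow (hc _ (Q.mul_mem hz' hz) _ (Q.mul_mem hz (Q.inv_mem hz')))]
    congr 2
    rw [← czz.eq, mul_assoc, ← mul_assoc z', ← czz.eq]; group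
  have h8 : x = y * z' ^ k := by rw [hy']; group
  have hτz' : (w * w) z' ∈ Q := (hτ.2 _).2 hz'
  rw [h8, hu.1.1 hy (Q.zpow_mem hz' _), hτ.1 hy (Q.zpow_mem hz' _), h5,
    hτ.1 hy ((hu.1.2 _).2 (Q.zpow_mem hz' _)), hu.1.1 ((hτ.2 _).2 hy) ((hτ.2 _).2 (Q.zpow_mem hz' _)),
    hu.1.1.map_zpow hz', hτ.1.map_zpow hz', hτ.1.map_zpow ((hu.1.2 _).2 hz'),
    hu.1.1.map_zpow hτz', h2, hτ.1 hz' hz, t1, t2, hu.1.1.map_inv hz', h2, h7,
    hu.1.1 hy (Q.zpow_mem (Q.mul_mem hz hz) _), hu.1.1.map_zpow (Q.mul_mem hz hz), hu.1.1 hz hz,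
    h1, h5, mul_inv_rev, czz.inv_inv.eq]

/-- An element inducing a transvection that is not unipotent together with its conjugates has
order `p` when `p` is odd. -/
theorem pow_eq_one_of_transvection [hp : Fact p.Prime] [Finite S] (hS : IsPGroup p S) (hp2 : p ≠ 2)
    (hP : F.StronglyClosed P) (hr : F.IsReceptive Q) (hQP : Q ≤ P) (hC : centralizerIn P Q ≤ Q)
    (hc : ∀ x ∈ Q, ∀ y ∈ Q, x * y = y * x) (he : ∀ x ∈ Q, x ^ p = 1) {g z : Ω} (hg : g ∈ P)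
    (hz : z ∈ Q) (ht : cj g ∈ trivOn (Subgroup.zpowers z) Q) (hgz : cj g z = z) {γ : Perm Ω}
    (hγ : F.Iso Q Q γ) (h1 : cj g (γ z) ≠ γ z) (h2 : cj g (γ⁻¹ z) ≠ γ⁻¹ z)
    (hgp : g ^ p ∈ Subgroup.zpowers z) : g ^ p = 1 := by
  have hz1 : z ≠ 1 := fun h => h1 (by rw [h, hγ.homOn.map_one]; simp)
  have hz' := hγ.mem hz
  have hn := cj_mem_autStab.1 ht.1
  have ht' := conj_mem_trivOn_zpowers hγ.mem_autStab hz ht
  obtain ⟨i, hi, h3⟩ := exists_pow_transvection (he z hz) hz ht hgz hz' h1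
    (Subgroup.mem_zpowers z) hz1
  have h4 : (γ * cj g * γ⁻¹) (γ z) = γ z := by
    simp only [Perm.mul_apply, perm_inv_apply_self, hgz]
  obtain ⟨j, -, h5⟩ := exists_pow_transvection (he _ hz') hz' ht' h4 hz
    (fun h => h2 (Perm.eq_inv_iff_eq.2 h)) (Subgroup.inv_mem _ (Subgroup.mem_zpowers _))
    (fun h => hz1 ((hγ.isMap.apply_eq_one hz).1 (inv_eq_one.1 h)))
  have hfix : ∀ {σ : Perm Ω} {x : Ω}, σ x = x → ∀ n : ℕ, (σ ^ n) x = x :=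
    fun h n => Perm.pow_apply_eq_self_of_apply_eq_self h n
  obtain ⟨t1, -, t3⟩ := exists_inverting hc hz hz' (Subgroup.pow_mem _ ht i)
    (Subgroup.pow_mem _ ht' j) (hfix hgz i) h3 (hfix h4 j) h5
  have hu : F.Iso Q Q (cj g ^ i) := (F.iso_cj hγ.le_left (hP.le hg) hn).pow i
  have hw := (hu.trans ((hγ.conj (F.iso_cj hγ.le_left (hP.le hg) hn)).pow j)).trans hu
  rw [← mul_assoc] at hw
  have hτ := hw.trans hw
  set τ := cj g ^ i * (γ * cj g * γ⁻¹) ^ j * cj g ^ i *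
    (cj g ^ i * (γ * cj g * γ⁻¹) ^ j * cj g ^ i) with hτ'
  rw [← map_pow] at t3
  have hgi := P.pow_mem hg i
  have hni := Subgroup.pow_mem _ hn i
  obtain ⟨ρ, hρ, h6⟩ := exists_ext_elt hr hτ (hP.le hgi) hni
    (mem_innS.2 ⟨_, hP.le hgi, hni, fun x hx => by
      rw [Perm.mul_apply, Perm.mul_apply, t3 _ (hτ.inv_mem hx), perm_apply_inv_self, cj_apply]⟩)
  have h7 := Subgroup.mem_sup_right (S := Q) (Subgroup.mem_zpowers (g ^ i))
  have hq : (g ^ i)⁻¹ * ρ (g ^ i) ∈ Q := hC ⟨P.mul_mem (P.inv_mem hgi) (hP.mem hρ h7 hgi),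
    fun y hy => by
      obtain ⟨x, hx, rfl⟩ := hτ.exists_eq hy
      have h8 := hρ.homOn.map_conj h7 (Subgroup.mem_sup_left hx)
      rw [h6 _ (conj_mem_of_mem_normalizer hni hx), h6 x hx, ← cj_apply, t3 x hx, cj_apply] at h8
      calc τ x * ((g ^ i)⁻¹ * ρ (g ^ i))
          = (g ^ i)⁻¹ * (g ^ i * τ x * (g ^ i)⁻¹) * ρ (g ^ i) := by group
        _ = _ := by rw [h8]; group⟩
  set q := (g ^ i)⁻¹ * ρ (g ^ i) with hq'
  obtain ⟨k, hk⟩ := (Subgroup.pow_mem _ ht i).2 _ (Q.inv_mem hq)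
  rw [← map_pow, inv_inv, cj_apply] at hk
  have hgz' : Commute z (g ^ i) := (show Commute g z from mul_inv_eq_iff_eq_mul.1 hgz).symm.pow_right i
  have h9 := mul_pow_of_comm (x := g ^ i) (y := q) (c := z ^ k)
    (by rw [show z ^ k = _ from hk]; group) (hgz'.zpow_left k) (hc _ (Q.zpow_mem hz k) _ hq) p
  obtain ⟨l, hl⟩ := hp.out.dvd_choose_self two_ne_zero (lt_of_le_of_ne hp.out.two_le hp2.symm)
  rw [hl, pow_mul, he _ (Q.zpow_mem hz k), he q hq, one_pow, mul_one, mul_one, hq',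
    mul_inv_cancel_left, ← hρ.homOn.map_pow h7, ← pow_mul, mul_comm, pow_mul] at h9
  obtain ⟨m, hm⟩ := Subgroup.pow_mem _ hgp i
  rw [← show z ^ m = _ from hm, h6 _ (Q.zpow_mem hz m), hτ.homOn.map_zpow hz, t1] at h9
  have h10 : z ^ m = 1 := eq_one_of_pow_of_not_dvd (p := p) (n := 2) (k := 1)
    (fun h => hp2 ((Nat.prime_dvd_prime_iff_eq hp.out Nat.prime_two).1 h))
    (by rw [sq]; nth_rw 1 [← h9]; rw [inv_zpow, inv_mul_cancel])
    (by rw [pow_one]; exact he _ (Q.zpow_mem hz m))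
  exact eq_one_of_pow_of_not_dvd (p := p) (k := 1) hi (hm.symm.trans h10)
    (by rw [pow_one]; exact he _ (Subgroup.zpowers_le.2 hz hgp))

end Cfsg.Agent.H8
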