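import Mathlib
import Cfsg.Agent.H8.MaxCl
import Cfsg.Agent.H8.Semi

/-!
Strongly closed metacyclic subgroups.
-/

set_option autoImplicit false

namespace Cfsg.Agent.H8

open Equiv Cfsg.Fus Cfsg.FusionSystem Subgroup

variable {Ω : Type*} [Group Ω] {S P Q : Subgroup Ω} {F : FusionSystem S} {p : ℕ}

theorem mem_zpowers_coe {x y : P} : x ∈ zpowers y ↔ (x : Ω) ∈ zpowers (y : Ω) :=
  ⟨fun ⟨k, hk⟩ => ⟨k, congrArg Subtype.val hk⟩, fun ⟨k, hk⟩ => ⟨k, Subtype.ext hk⟩⟩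

theorem pow_mem_map_frattini [Fact p.Prime] [Finite Q] (hQ : IsPGroup p Q) {x : Ω} (hx : x ∈ Q) :
    x ^ p ∈ (frattini Q).map Q.subtype := ⟨_, pow_mem_frattini hQ ⟨x, hx⟩, rfl⟩

theorem conj_mem_map_frattini {g x : Ω} (hg : g ∈ Q) (hx : x ∈ (frattini Q).map Q.subtype) :
    g⁻¹ * x * g ∈ (frattini Q).map Q.subtype := by
  obtain ⟨x, hx, rfl⟩ := hx
  exact ⟨_, (inferInstance : (frattini Q).Normal).conj_mem' x hx ⟨g, hg⟩, rfl⟩

theorem Bad.mem_of_frattini [Fact p.Prime] [Finite S] (h : Bad F p P Q) (hP : P ≤ S)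
    (hS : IsPGroup p S) {g : Ω} (hg : g ∈ P)
    (hc : ∀ x ∈ Q, x⁻¹ * (g * x * g⁻¹) ∈ (frattini Q).map Q.subtype) : g ∈ Q := by
  have hQS := h.lt.le.trans hP
  haveI := finite_of_le hQS
  have hn : g ∈ normalizer (Q : Set Ω) := mem_normalizer_of_finite fun x hx => by
    simpa using Q.mul_mem hx (map_subtype_le _ (hc x hx))
  exact h.rad g hg hn (mem_opStab_of_frattini hS (F.iso_cj hQS (hP hg) hn) hc)

theorem Bad.not_stab [Fact p.Prime] [Finite S] [Finite Q] (h : Bad F p P Q) (hP : P ≤ S)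
    (hS : IsPGroup p S) : ¬ Stab p (F.autGroup Q) (pElts p (F.autGroup Q)) ⊤ := fun hs => by
  obtain ⟨g, hg, hn, -, ho⟩ := h.exists_elt hP hS
  exact ho (mem_opStab_of_stab (qEl_cj hS (h.lt.le.trans hP) (hP hg) hn) hs)

/-- A strongly closed metacyclic subgroup is normal unless it is a `2`-group of maximal class. -/
theorem normal_or_maxCl [hp : Fact p.Prime] [Finite S] (hP : F.StronglyClosed P)
    (hF : F.IsSaturated p) (hS : IsPGroup p S) (hm : IsMetacyclic P) :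
    F.IsNormal P ∨ (p = 2 ∧ MaxCl P) := by
  refine (em _).imp_right fun h => ?_
  obtain ⟨Q, hQ⟩ := exists_bad hP hF hS h
  have hQS := hQ.lt.le.trans hP.1
  haveI := finite_of_le hP.1
  haveI := finite_of_le hQS
  have hPp := isPGroup_of_le hS hP.1
  have hQp := isPGroup_of_le hS hQS
  obtain ⟨a, b, hn, hab⟩ := exists_gen_of_isMetacyclic hm
  have hN : ∀ c ∈ zpowers a, ∀ g : P, c⁻¹ * (g * c * g⁻¹) ∈ zpowers (c ^ p) := fun c hc g => by
    obtain ⟨r, hr⟩ := H2.exists_conj_eq_pow (le_normalizer_of_normal (H := zpowers a) (mem_top g))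
    exact inv_mul_conj_mem_zpowers_pow hPp
      (H2.conj_eq_pow_of_mem_zpowers hr hc ▸ Subgroup.pow_mem _ (mem_zpowers c) r)
  have hF1 : ∀ c : P, (c : Ω) ∈ Q → ∀ d ∈ zpowers (c ^ p), (d : Ω) ∈ (frattini Q).map Q.subtype :=
    fun c hc d hd => zpowers_le.2 (pow_mem_map_frattini hQp hc) (mem_zpowers_coe.1 hd)
  have haQ : a ∉ Q.subgroupOf P := fun ha => by
    have hb : b ∈ Q.subgroupOf P := hQ.mem_of_frattini hP.1 hS b.2 fun q hq => by
      obtain ⟨k, hk⟩ := hab ⟨q, hQ.lt.le hq⟩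
      have h0 := mem_subgroupOf.1 (zpowers_le.2 ha hk)
      have h1 := conj_mem_map_frattini (Q.mul_mem (Q.inv_mem h0) hq) (hF1 _ h0 _ (hN _ hk b))
      convert h1 using 1
      simp only [coe_mul, coe_inv, coe_zpow, coe_subtype]; group
    refine hQ.lt.not_ge fun g hg => ?_
    obtain ⟨k, hk⟩ := hab ⟨g, hg⟩
    simpa [mem_subgroupOf] using mul_mem (zpowers_le.2 ha hk) (zpow_mem hb k)
  obtain ⟨e, hnQ, hxQ⟩ := H2.exists_pow_notMem_pow_mem hPp haQ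
  set n := a ^ p ^ e
  have hna : n ∈ zpowers a := Subgroup.pow_mem _ (mem_zpowers a) _
  set x : Q := ⟨(n ^ p : P), hxQ⟩ with hx
  have hxa : n ^ p ∈ zpowers a := Subgroup.pow_mem _ hna p
  have hcap : ∀ c ∈ zpowers a, c ∈ Q.subgroupOf P → c ∈ zpowers (n ^ p) := fun c hc hcQ => by
    haveI : IsCyclic (zpowers a) := isCyclic_zpowers a
    obtain ⟨k, hk⟩ := hPp c
    obtain ⟨l, hl⟩ := hPp n
    rcases mem_zpowers_total (u := (⟨c, hc⟩ : zpowers a)) (v := ⟨n, hna⟩) (Subtype.ext hk)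
      (Subtype.ext hl) with h1 | h1
    · obtain ⟨j, rfl⟩ := mem_zpowers_coe.1 h1
      by_cases hj : (p : ℤ) ∣ j
      · exact zpow_mem_zpowers_pow hj
      · exact absurd (mem_of_zpow_mem_of_not_dvd hj hcQ (hl ▸ one_mem _)) hnQ
    · exact absurd (zpowers_le.2 hcQ (mem_zpowers_coe.1 h1)) hnQ
  have hcomm : ∀ q ∈ Q, q⁻¹ * (n * q * (n : Ω)⁻¹) ∈ zpowers (x : Ω) := fun q hq => by
    obtain ⟨k, hk⟩ := mem_zpowers_coe.1 (hN n hna ⟨q, hQ.lt.le hq⟩⁻¹)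
    refine ⟨k, ?_⟩
    have h1 : (n : Ω) * ((n : Ω) ^ p) ^ k * (n : Ω)⁻¹ = ((n : Ω) ^ p) ^ k := by group
    simp only [hx, coe_pow, coe_mul, coe_inv, inv_inv] at hk ⊢
    rw [← h1, hk]; group
  obtain ⟨q, hq, hqF⟩ : ∃ q ∈ Q, q⁻¹ * (n * q * (n : Ω)⁻¹) ∉ (frattini Q).map Q.subtype := by
    by_contra! h1
    exact hnQ (hQ.mem_of_frattini hP.1 hS n.2 h1)
  have hxF : x ∉ frattini Q := fun h1 => hqF (zpowers_le.2 (mem_map_of_mem _ h1) (hcomm q hq))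
  obtain ⟨y, hy, hyg⟩ := exists_gen_subgroup hab (Q.subgroupOf P)
  have hy' : (y : Ω) ∈ Q := hy
  have hxy : ∀ g : Q, ∃ j : ℤ, g * ((⟨y, hy⟩ : Q) ^ j)⁻¹ ∈ zpowers x := fun g => by
    obtain ⟨j, hj⟩ := hyg ⟨g, hQ.lt.le g.2⟩ g.2
    have := mem_zpowers_coe.1 (hcap _ hj (mul_mem (by exact g.2) (inv_mem (zpow_mem hy j))))
    exact ⟨j, mem_zpowers_coe.2 this⟩
  haveI : (zpowers x).Normal := ⟨fun c hc g => by
    have h1 := mem_zpowers_coe.1 hc
    have h2 := mem_zpowers_coe.1 (hcap _ (hn.conj_mem ⟨c, hQ.lt.le c.2⟩ (zpowers_le.2 hxa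
      (mem_zpowers_coe.2 h1)) ⟨g, hQ.lt.le g.2⟩) (g * c * g⁻¹).2)
    exact mem_zpowers_coe.2 h2⟩
  have hnf := noFlag_of_not_stab hQp (index_frattini_dvd_of_gen hQp hxy) (hQ.not_stab hP.1 hS)
  rcases hnf.comm_or_quaternion hQp hxy hxF with hc | ⟨rfl, h1, h2, h3, -⟩
  swap
  · replace h2 := congrArg Subtype.val h2
    replace h3 := congrArg Subtype.val h3
    refine ⟨rfl, maxCl_of_inverts hPp hab hxa (y := y) (fun h4 => ?_) (Subtype.ext h2) ?_⟩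
    · replace h4 := congrArg Subtype.val h4
      have := orderOf_dvd_of_pow_eq_one (show x ^ 2 = 1 from Subtype.ext h4)
      rw [h1] at this; omega
    · rw [sq, show y * y = (n ^ 2) ^ 2 from Subtype.ext h3]
      exact Subgroup.pow_mem _ hxa 2
  have hc' : ∀ u ∈ Q, ∀ v ∈ Q, u * v = v * u := fun u hu v hv =>
    congrArg Subtype.val (hc ⟨u, hu⟩ ⟨v, hv⟩)
  have hnx : Commute (n : Ω) x := (Commute.refl _).pow_right p
  have hx1 : (x : Ω) ≠ 1 := fun h1 => hxF ((Subtype.ext h1 : x = 1) ▸ one_mem _)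
  obtain ⟨u, hu⟩ := hcomm q hq
  have hu' : (x : Ω) ^ u = q⁻¹ * n * q * (n : Ω)⁻¹ := by rw [show (x : Ω) ^ u = _ from hu]; group
  have hpu : ¬ (p : ℤ) ∣ u := fun h1 =>
    hqF (hu ▸ zpowers_le.2 (pow_mem_map_frattini hQp x.2) (zpow_mem_zpowers_pow h1))
  have hxp : x ^ p = 1 := by
    obtain ⟨k, hk⟩ := hQp (x ^ p)
    refine mem_bot.1 (mem_of_zpow_mem_of_not_dvd hpu (mem_bot.2 (Subtype.ext ?_)) (mem_bot.2 hk))
    have h1 : ((x : Ω) ^ u * n) ^ p = q⁻¹ * x * q := by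
      rw [hu', inv_mul_cancel_right]; simpa [hx] using conj_pow (i := p) (a := q⁻¹) (b := (n : Ω))
    rw [(hnx.symm.zpow_left u).mul_pow, mul_assoc, hc' _ x.2 _ hq, inv_mul_cancel_left] at h1
    have h2 := mul_eq_right.1 h1
    simpa only [coe_zpow, coe_pow, ← zpow_natCast, ← zpow_mul, mul_comm, coe_one] using h2
  have hexp : ∀ w ∈ Q, w ^ p = 1 := fun w hw =>
    congrArg Subtype.val (hnf.pow_eq_one hc hxF hxp ⟨w, hw⟩)
  by_cases hp2 : p = 2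
  · subst hp2
    refine ⟨rfl, maxCl_of_inverts hPp hab hna (y := (⟨q, hQ.lt.le hq⟩ : P)⁻¹)
      (fun h1 => hx1 (congrArg Subtype.val h1)) (Subtype.ext ?_) ?_⟩
    · obtain ⟨m, rfl | rfl⟩ := Int.even_or_odd' u
      · exact absurd (Dvd.intro _ rfl) hpu
      have h4 := hexp _ x.2
      rw [zpow_add, zpow_mul, zpow_ofNat, h4, one_zpow, one_mul, zpow_one,
        eq_mul_inv_iff_mul_eq] at hu'
      simp only [coe_mul, coe_inv, inv_inv, ← hu', eq_inv_iff_mul_eq_one, ← h4, hx, coe_pow]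
      group
    · rw [show (⟨q, hQ.lt.le hq⟩ : P)⁻¹ ^ 2 = 1 from Subtype.ext (hexp _ (Q.inv_mem hq))]
      exact one_mem _
  exfalso
  have hcen : ∀ w ∈ Q, cj (n : Ω) w = w → w ∈ zpowers (x : Ω) := fun w hw hnw => by
    by_contra h1
    obtain ⟨k, hk⟩ := hxy ⟨w, hw⟩
    have hk' : w * ((y : Ω) ^ k)⁻¹ ∈ zpowers (x : Ω) := mem_zpowers_coe.1 hk
    have hxc : zpowers (x : Ω) ≤ centralizer {(n : Ω)} :=
      zpowers_le.2 (mem_centralizer_singleton_iff.2 hnx.symm)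
    have hyc : (y : Ω) ∈ centralizer {(n : Ω)} := by
      refine mem_of_zpow_mem_of_not_dvd (p := p) (j := k) (k := 1) (fun h2 => h1 ?_) ?_
        (by rw [pow_one, hexp _ hy']; exact one_mem _)
      · obtain ⟨l, rfl⟩ := h2
        rwa [zpow_mul, zpow_natCast, hexp _ hy', one_zpow, inv_one, mul_one] at hk'
      · simpa using mul_mem (inv_mem (hxc hk')) (mem_centralizer_singleton_iff.2
          (mul_inv_eq_iff_eq_mul.1 hnw).symm)
    obtain ⟨l, hl⟩ := hxy ⟨q, hq⟩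
    have h2 : q ∈ centralizer {(n : Ω)} := by
      simpa using mul_mem (hxc (mem_zpowers_coe.1 hl)) (zpow_mem hyc l)
    exact hqF (by rw [← mem_centralizer_singleton_iff.1 h2]; simp)
  have hnn : (n : Ω) ∈ normalizer (Q : Set Ω) := mem_normalizer_of_finite fun w hw => by
    simpa using Q.mul_mem hw (zpowers_le.2 x.2 (hcomm w hw))
  obtain ⟨α, hα, hαx⟩ : ∃ α ∈ F.autGroup Q, α x ∉ zpowers x := by
    by_contra! h1
    rcases hnf (zpowers x) (by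
      rintro α hα _ ⟨k, rfl⟩
      rw [map_zpow]; exact zpow_mem (h1 α hα) k) with h2 | h2
    · exact hxF (h2 (mem_zpowers x))
    · obtain ⟨k, hk⟩ := mem_zpowers_coe.1 (h2.ge (mem_top ⟨q, hq⟩))
      exact hqF (by rw [← show (x : Ω) ^ k = q from hk, (hnx.zpow_right k).eq]; simp)
  have hγ := (F.mem_autGroup_iff hQS).1 hα
  refine hx1 (pow_eq_one_of_transvection hS hp2 hP (hQ.fn.isReceptive hF hS) hQ.lt.le hQ.cent hc'
    hexp n.2 x.2 ⟨cj_mem_autStab.2 hnn, hcomm⟩ (by simp [hnx.eq]) hγ (fun h1 => hαx ?_)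
    (fun h1 => hαx ?_) (mem_zpowers _))
  · exact mem_zpowers_coe.2 (extAut_coe α x ▸ hcen _ (hγ.mem x.2) h1)
  · obtain ⟨i, hi⟩ := exists_pow_eq_of_mem_zpowers (hexp _ x.2) (hcen _ (hγ.inv_mem x.2) h1)
      (fun h2 => hx1 ((hγ.symm.isMap.apply_eq_one x.2).1 h2)) (mem_zpowers _)
    refine mem_zpowers_coe.2 ⟨i, ?_⟩
    rw [← extAut_coe]
    conv_rhs => rw [← hi, hγ.homOn.map_pow (hγ.inv_mem x.2), perm_apply_inv_self]
    exact zpow_natCast _ _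

end Cfsg.Agent.H8
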