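import Mathlib
import Cfsg.Agent.H8.Meta

/-!
Resistant groups whose fusion systems are inner.
-/

set_option autoImplicit false

namespace Cfsg.Agent.H8

open Equiv Cfsg.Fus Cfsg.FusionSystem Subgroup

variable {Ω : Type*} [Group Ω] {S : Subgroup Ω} {F : FusionSystem S} {p : ℕ}

theorem eq_inner_of_isNormal [Fact p.Prime] [Finite S] (hF : F.IsSaturated p) (hn : F.IsNormal S)
    (h : IsPGroup p (F.autGroup S)) : F = innerFusionSystem S := by
  have h1 := autGroup_top_eq_Inn hF fun α hα => by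
    obtain ⟨k, hk⟩ := h ⟨α, hα⟩
    exact ⟨k, congrArg Subtype.val hk⟩
  refine eq_inner_iff.2 fun P f hf => ?_
  obtain ⟨α, hα, h2⟩ := hn.exists_aut hf
  obtain ⟨g, hg, h3⟩ := mem_Inn_iff.1 (h1 ▸ hα.resAut_mem)
  exact ⟨g, hg, fun x hx => by
    rw [← h2 x hx, ← resAut_apply hα.mem_autStab ⟨x, hf.le hx⟩, h3]⟩

/-- A metacyclic `p`-group is cyclic, homocyclic of rank two, quaternion of order eight, or has a
proper `A`-invariant subgroup outside the Frattini subgroup. -/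
theorem metacyclic_cases {G : Type*} [Group G] [Finite G] [Fact p.Prime] (hG : IsPGroup p G)
    (hm : IsMetacyclic G) (A : Subgroup (MulAut G)) : (frattini G).index ∣ p ^ 2 ∧ (IsCyclic G ∨
      (∃ n, 0 < n ∧ Nonempty (G ≃* Multiplicative (ZMod (p ^ n)) × Multiplicative (ZMod (p ^ n)))) ∨
      (p = 2 ∧ MaxCl G) ∨
      ∃ M : Subgroup G, (∀ a ∈ A, ∀ y ∈ M, a y ∈ M) ∧ ¬ M ≤ frattini G ∧ M ≠ ⊤) := by
  obtain ⟨a, b, hn, hab⟩ := exists_gen_of_isMetacyclic hm
  refine ⟨index_frattini_dvd_of_gen hG hab, (em _).imp_right fun hc => ?_⟩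
  by_cases h : NoFlag A
  · rcases h.comm_or_quaternion hG hab fun ha => hc (isCyclic_of_mem_frattini hab ha) with
      h1 | ⟨rfl, h1, h2, h3, -⟩
    · exact Or.inl (h.homocyclic hG h1 hab hc)
    · refine Or.inr (Or.inl ⟨rfl, maxCl_of_inverts hG hab (mem_zpowers a) (fun h4 => ?_) h2 ?_⟩)
      · have := orderOf_dvd_of_pow_eq_one h4
        rw [h1] at this; omega
      · rw [sq, h3]; exact Subgroup.pow_mem _ (mem_zpowers a) 2
  · simp only [NoFlag, not_forall, not_or] at h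
    obtain ⟨M, h1, h2, h3⟩ := h
    exact Or.inr (Or.inr ⟨M, h1, h2, h3⟩)

end Cfsg.Agent.H8
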