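import Mathlib
import Cfsg.Agent.H8.MetaGrp

/-!
Invariant chains with cyclic steps in finite `p`-groups.
-/

set_option autoImplicit false

namespace Cfsg.Agent.H8

open Subgroup Polynomial

theorem exists_eigen_of_pow_card {K V : Type*} [Field K] [Fintype K] [AddCommGroup V] [Module K V]
    [Nontrivial V] (f : Module.End K V) (hf : f ^ Fintype.card K = f) :
    ∃ (a : K) (v : V), v ≠ 0 ∧ f v = a • v := by
  classical
  by_contra! h
  have h1 : ∀ s : Finset K, ∀ v, aeval f (∏ a ∈ s, (X - C a)) v = 0 → v = 0 := fun s => by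
    induction s using Finset.induction_on with
    | empty => simp
    | insert a s ha ih =>
      intro v hv
      rw [Finset.prod_insert ha, map_mul, Module.End.mul_apply] at hv
      refine ih v (by_contra fun h2 => h a _ h2 ?_)
      simpa [sub_eq_zero] using hv
  have h2 : (∏ a : K, (X - C a)) = X ^ Fintype.card K - X := by
    have := prod_multiset_X_sub_C_of_monic_of_roots_card_eq (p := (X ^ Fintype.card K - X : K[X]))
      (monic_X_pow_sub (by simpa using Fintype.one_lt_card)) (by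
        rw [FiniteField.roots_X_pow_card_sub_X, FiniteField.X_pow_card_sub_X_natDegree_eq _
          Fintype.one_lt_card]; rfl)
    rwa [FiniteField.roots_X_pow_card_sub_X] at this
  obtain ⟨v, hv⟩ := exists_ne (0 : V)
  exact hv (h1 Finset.univ v (by simp [h2, hf]))

theorem exists_eigen_comm {V : Type*} [CommGroup V] [Nontrivial V] {p : ℕ} [hp : Fact p.Prime]
    (hV : ∀ x : V, x ^ p = 1) (f : V →* V) (hf : ∀ x, f^[p - 1] x = x) :
    ∃ v ≠ 1, ∃ a : ℕ, f v = v ^ a := by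
  letI : Module (ZMod p) (Additive V) := AddCommGroup.zmodModule (n := p) (G := Additive V)
    fun x => congrArg Additive.ofMul (hV x.toMul)
  let g : Module.End (ZMod p) (Additive V) := (MonoidHom.toAdditive f).toZModLinearMap p
  have hg : g ^ (p - 1) = 1 := LinearMap.ext fun x => by
    have h1 : ∀ n (x : V), g^[n] (Additive.ofMul x) = Additive.ofMul (f^[n] x) := fun n => by
      induction n with
      | zero => exact fun _ => rfl
      | succ n ih => exact fun x => ih (f x)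
    exact (Module.End.pow_apply g _ x).trans ((h1 _ x.toMul).trans (by simp [hf]))
  obtain ⟨a, v, hv, h1⟩ := exists_eigen_of_pow_card g (by
    rw [ZMod.card, ← pow_sub_one_mul hp.out.ne_zero, hg, one_mul])
  rw [← ZMod.natCast_zmod_val a, Nat.cast_smul_eq_nsmul] at h1
  exact ⟨v, hv, a.val, h1⟩

variable {G : Type*} [Group G] {p : ℕ} {A : Subgroup (MulAut G)}

theorem exists_eigen_mod [hp : Fact p.Prime] {N W : Subgroup G} [N.Normal] (hNW : ¬ W ≤ N)
    (hpow : ∀ x ∈ W, x ^ p ∈ N) (hcomm : ∀ x ∈ W, ∀ y ∈ W, x * y * x⁻¹ * y⁻¹ ∈ N) {α : MulAut G}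
    (hN : ∀ y ∈ N, α y ∈ N) (hW : ∀ y ∈ W, α y ∈ W) (h : ∀ x ∈ W, x⁻¹ * (α ^ (p - 1)) x ∈ N) :
    ∃ w ∈ W, w ∉ N ∧ ∃ a : ℕ, (w ^ a)⁻¹ * α w ∈ N := by
  letI : CommGroup (W ⧸ N.subgroupOf W) := { (inferInstance : Group _) with
    mul_comm := by
      rintro ⟨x⟩ ⟨y⟩
      exact commutatorElement_eq_one_iff_mul_comm.1
        ((QuotientGroup.eq_one_iff (x * y * x⁻¹ * y⁻¹)).2 (hcomm _ x.2 _ y.2)) }
  haveI : Nontrivial (W ⧸ N.subgroupOf W) := QuotientGroup.nontrivial_iff.2 fun h1 =>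
    hNW (subgroupOf_eq_top.1 h1)
  let β : W →* W := (α.toMonoidHom.comp W.subtype).codRestrict W fun x => hW _ x.2
  let f := QuotientGroup.map (N.subgroupOf W) (N.subgroupOf W) β fun x hx => hN _ hx
  have hf : ∀ (n : ℕ) (x : W), ∃ y : W, (y : G) = (α ^ n) x ∧ f^[n] x = y := by
    intro n x
    induction n with
    | zero => exact ⟨x, rfl, rfl⟩
    | succ n ih =>
      obtain ⟨y, h1, h2⟩ := ih
      exact ⟨β y, by rw [pow_succ', MulAut.mul_apply, ← h1]; rfl, by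
        rw [Function.iterate_succ_apply', h2]; rfl⟩
  obtain ⟨⟨v⟩, hv, a, h1⟩ := exists_eigen_comm (p := p) (by
    rintro ⟨x⟩
    exact (QuotientGroup.eq_one_iff (x ^ p)).2 (hpow _ x.2)) f (by
    rintro ⟨x⟩
    obtain ⟨y, h1, h2⟩ := hf (p - 1) x
    refine h2.trans (QuotientGroup.eq.2 ?_).symm
    simpa [mem_subgroupOf, h1] using h x x.2)
  exact ⟨v, v.2, fun h2 => hv ((QuotientGroup.eq_one_iff v).2 h2), a, mem_subgroupOf.1
    (QuotientGroup.eq.1 (show ((v ^ a : W) : W ⧸ N.subgroupOf W) = β v from h1.symm))⟩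

/-- Chains of `A`-invariant subgroups with cyclic steps. -/
inductive Cyc (A : Subgroup (MulAut G)) : Subgroup G → Prop
  | bot : Cyc A ⊥
  | step (L : Subgroup G) (x : G) : Cyc A L →
      (∀ a ∈ A, ∀ y ∈ L ⊔ zpowers x, a y ∈ L ⊔ zpowers x) → Cyc A (L ⊔ zpowers x)

theorem Cyc.inv {M : Subgroup G} (h : Cyc A M) : ∀ a ∈ A, ∀ y ∈ M, a y ∈ M := by
  cases h with
  | bot => simp
  | step L x _ h => exact h

/-- Chains of `A`-invariant subgroups above the Frattini subgroup with steps of index at most `p`. -/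
inductive PFlag (p : ℕ) (A : Subgroup (MulAut G)) : Subgroup G → Prop
  | base : PFlag p A (frattini G)
  | step (L M : Subgroup G) : PFlag p A L → L ≤ M → (∀ a ∈ A, ∀ y ∈ M, a y ∈ M) →
      L.relIndex M ∣ p → PFlag p A M

theorem PFlag.inv {M : Subgroup G} (h : PFlag p A M) : ∀ a ∈ A, ∀ y ∈ M, a y ∈ M := by
  cases h with
  | base => exact char_inv A
  | step L x _ _ h => exact h

theorem PFlag.le {M : Subgroup G} (h : PFlag p A M) : frattini G ≤ M := by
  induction h with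
  | base => exact le_rfl
  | step L M _ h _ _ ih => exact ih.trans h

theorem PFlag.mono {M : Subgroup G} (h : PFlag p A M) {B : Subgroup (MulAut G)} (hB : B ≤ A) :
    PFlag p B M := by
  induction h with
  | base => exact .base
  | step L M _ h1 h2 h3 ih => exact .step L M ih h1 (fun a ha => h2 a (hB ha)) h3

variable [Finite G] [hp : Fact p.Prime]

theorem normal_of_frattini_le (hG : IsPGroup p G) {L : Subgroup G} (h : frattini G ≤ L) :
    L.Normal := ⟨fun x hx y => by simpa using mul_mem (h (comm_mem_frattini hG y x)) hx⟩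

theorem Cyc.pFlag (hG : IsPGroup p G) {M : Subgroup G} (h : Cyc A M) :
    PFlag p A (M ⊔ frattini G) := by
  induction h with
  | bot => simpa using PFlag.base
  | step L x _ h ih =>
    haveI := normal_of_frattini_le hG ih.le
    exact .step _ _ ih (sup_le_sup_right le_sup_left _) (inv_sup h (char_inv A))
      (relIndex_dvd_of_le_zpowers_sup (ih.le (pow_mem_frattini hG x))
        (by rw [sup_comm L, sup_assoc]))

theorem pFlag_of_index (hr : (frattini G).index ∣ p) : PFlag p A ⊤ :=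
  .step _ _ .base le_top (fun _ _ _ _ => trivial) (by rwa [relIndex_top_right])

theorem pFlag_of_rank_two (hG : IsPGroup p G) (hr : (frattini G).index ∣ p ^ 2) {M : Subgroup G}
    (hM : ∀ a ∈ A, ∀ y ∈ M, a y ∈ M) (h1 : ¬ M ≤ frattini G) (h2 : M ≠ ⊤) : PFlag p A ⊤ := by
  obtain ⟨h3, h4⟩ := relIndex_dvd_of_between hG (le_sup_right : _ ≤ M ⊔ frattini G) le_top
    (by rwa [relIndex_top_right]) (fun h => h1 (le_sup_left.trans h))
    fun h => h2 (frattini_nongenerating (top_le_iff.1 h))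
  exact .step _ _ (.step _ _ .base le_sup_right (inv_sup hM (char_inv A)) h3) le_top
    (fun _ _ _ _ => trivial) h4

theorem exists_pow_of_relIndex (hG : IsPGroup p G) {L M : Subgroup G} (hF : frattini G ≤ L)
    (hi : L.relIndex M ∣ p) {α : MulAut G} (hL : ∀ y ∈ L, α y ∈ L) (hM : ∀ y ∈ M, α y ∈ M) :
    haveI := normal_of_frattini_le hG hF
    ∃ a : ℕ, ∀ y ∈ M, ((α y : G) : G ⧸ L) = (y : G ⧸ L) ^ a := by
  haveI := normal_of_frattini_le hG hF
  haveI : IsCyclic (M.map (QuotientGroup.mk' L)) := by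
    refine isCyclic_of_card_dvd_prime (p := p) ?_
    rwa [← relIndex_ker, QuotientGroup.ker_mk']
  obtain ⟨_, hc⟩ := (Subgroup.isCyclic_iff_exists_zpowers_eq_top _).1 this
  obtain ⟨x, hx, rfl⟩ := hc.le (mem_zpowers _)
  obtain ⟨a, ha⟩ := mem_powers_iff_mem_zpowers.2 (hc.ge (mem_map_of_mem _ (hM x hx)))
  refine ⟨a, fun y hy => ?_⟩
  obtain ⟨k, hk⟩ := hc.ge (mem_map_of_mem _ hy)
  simp only [QuotientGroup.mk'_apply] at ha hk
  have := QuotientGroup.eq.2 (show (α (x ^ k))⁻¹ * α y ∈ L by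
    simpa using hL _ (QuotientGroup.eq.1 (show ((x ^ k : G) : G ⧸ L) = y from hk)))
  rw [← this, ← hk, map_zpow, QuotientGroup.mk_zpow, ← ha]
  simp only [← zpow_natCast, ← zpow_mul, mul_comm]

/-- A `p'`-group of automorphisms with an invariant flag is abelian of exponent dividing `p - 1`. -/
theorem PFlag.comm_of_coprime (hG : IsPGroup p G) (h : PFlag p A ⊤) (hA : (Nat.card A).Coprime p) :
    IsMulCommutative A ∧ ∀ h ∈ A, h ^ (p - 1) = 1 := by
  have key : ∀ M, PFlag p A M → Stab p A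
      {γ | ∃ α ∈ A, ∃ β ∈ A, γ = α * β * α⁻¹ * β⁻¹ ∨ γ = α ^ (p - 1)} M := fun M hM => by
    induction hM with
    | base =>
      refine .base ?_ le_rfl
      rintro _ ⟨α, hα, β, hβ, rfl | rfl⟩
      exacts [mul_mem (mul_mem (mul_mem hα hβ) (inv_mem hα)) (inv_mem hβ), pow_mem hα _]
    | step L M h1 _ h3 h4 ih =>
      haveI := normal_of_frattini_le hG h1.le
      refine ih.step hG h1.inv h3 ?_
      rintro _ ⟨α, hα, β, hβ, h5⟩ x hx
      obtain ⟨a, ha⟩ := exists_pow_of_relIndex hG h1.le h4 (h1.inv α hα) (h3 α hα)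
      obtain ⟨b, hb⟩ := exists_pow_of_relIndex hG h1.le h4 (h1.inv β hβ) (h3 β hβ)
      refine QuotientGroup.eq.1 ?_
      rcases h5 with rfl | rfl
      · have hy := h3 _ (inv_mem hα) _ (h3 _ (inv_mem hβ) x hx)
        have h5 := (hb _ (h3 α hα _ hy)).trans (by rw [ha _ hy])
        simp only [MulAut.apply_inv_self] at h5
        simp only [MulAut.mul_apply]
        rw [h5, ha _ (h3 β hβ _ hy), hb _ hy, ← pow_mul, ← pow_mul, mul_comm]
      · have h5 : ∀ n : ℕ, (((α ^ n) x : G) : G ⧸ L) = (x : G ⧸ L) ^ a ^ n := fun n => by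
          induction n with
          | zero => simp
          | succ n ih => rw [pow_succ', MulAut.mul_apply, ha _ (h3 _ (pow_mem hα n) x hx), ih,
              ← pow_mul, pow_succ]
        have h6 : ∀ y : G, (y : G ⧸ L) ^ p = 1 := fun y =>
          (QuotientGroup.eq_one_iff (y ^ p)).2 (h1.le (pow_mem_frattini hG y))
        by_cases hpa : p ∣ a
        · obtain ⟨c, rfl⟩ := hpa
          have h7 := ha _ (h3 _ (inv_mem hα) x hx)
          rw [MulAut.apply_inv_self, pow_mul, h6, one_pow] at h7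
          rw [h5, h7, one_pow]
        · rw [h5, pow_eq_pow_of_modEq (Nat.ModEq.pow_card_sub_one_eq_one hp.out
            ((Nat.coprime_comm.1 (hp.out.coprime_iff_not_dvd.2 hpa)))) (h6 x), pow_one]
  obtain ⟨K, h1, -, h2, h3⟩ := (key _ h).top
  have h4 : K = ⊥ := by
    obtain ⟨n, hn⟩ := IsPGroup.iff_card.1 h3
    exact card_eq_one.1 (Nat.eq_one_of_dvd_coprimes (hA.pow_right n) (card_dvd_of_le h1) hn.dvd)
  subst h4
  exact ⟨⟨⟨fun α β => Subtype.ext (commutatorElement_eq_one_iff_mul_comm.1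
    (mem_bot.1 (h2 ⟨α, α.2, β, β.2, Or.inl rfl⟩)))⟩⟩,
    fun α hα => mem_bot.1 (h2 ⟨α, hα, α, hα, Or.inr rfl⟩)⟩

/-- The automizers of `G` in saturated fusion systems over `G`. -/
def Adm (p : ℕ) (A : Subgroup (MulAut G)) : Prop :=
  Inn G ≤ A ∧ ∀ α ∈ A, (∃ k : ℕ, α ^ p ^ k = 1) → α ∈ Inn G

theorem adm_sup (hA : (Nat.card A).Coprime p) : Adm p (A ⊔ Inn G) := by
  refine ⟨le_sup_right, fun α hα ⟨k, hk⟩ => ?_⟩
  obtain ⟨β, hβ, γ, hγ, rfl⟩ := mem_sup_of_normal_right.1 hα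
  rw [← QuotientGroup.eq_one_iff] at hγ ⊢
  have h1 : ((β * γ : MulAut G) : MulAut G ⧸ Inn G) ^ Nat.card A = 1 := by
    rw [QuotientGroup.mk_mul, hγ, mul_one, ← QuotientGroup.mk_pow,
      show β ^ Nat.card A = 1 from congrArg Subtype.val (pow_card_eq_one' (x := (⟨β, hβ⟩ : A)))]
    rfl
  have h2 : ((β * γ : MulAut G) : MulAut G ⧸ Inn G) ^ p ^ k = 1 := by
    rw [← QuotientGroup.mk_pow, hk]; rfl
  exact (pow_eq_one_iff_of_coprime (hA.pow_right k)).1 ⟨h1, h2⟩

theorem Adm.exists_compl (hG : IsPGroup p G) (h : Adm p A) : ∃ H : Subgroup (MulAut G),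
    (Nat.card H).Coprime p ∧ ∀ α ∈ A, ∃ β ∈ H, β ∈ A ∧ ∃ g : G, α = MulAut.conj g * β := by
  have h1 : ¬ p ∣ ((Inn G).subgroupOf A).index := fun h1 => by
    obtain ⟨x, ⟨k, hk⟩, h2⟩ := exists_pelt_of_dvd_card_quotient ((Inn G).subgroupOf A) h1
    exact h2 (h.2 x x.2 ⟨k, congrArg Subtype.val hk⟩)
  obtain ⟨n, hn⟩ := IsPGroup.iff_card.1 ((isPGroup_Inn hG).comap_of_injective _ A.subtype_injective)
  obtain ⟨H, hH⟩ := exists_right_complement'_of_coprime (N := (Inn G).subgroupOf A)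
    (by rw [subgroupOf, hn]; exact (hp.out.coprime_iff_not_dvd.2 h1).pow_left n)
  refine ⟨H.map A.subtype, ?_, fun α hα => ?_⟩
  · rw [card_map_of_injective A.subtype_injective, ← hH.symm.index_eq_card]
    exact (hp.out.coprime_iff_not_dvd.2 h1).symm
  · obtain ⟨⟨⟨γ, g, hg⟩, β⟩, h2⟩ := (hH.existsUnique ⟨α, hα⟩).exists
    exact ⟨_, mem_map_of_mem _ β.2, β.1.2, g, by rw [hg]; exact (congrArg Subtype.val h2).symm⟩

theorem Adm.cyc (hG : IsPGroup p G) (h : Adm p A)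
    (hH : ∀ H : Subgroup (MulAut G), (Nat.card H).Coprime p →
      IsMulCommutative H ∧ ∀ h ∈ H, h ^ (p - 1) = 1) : Cyc A ⊤ := by
  obtain ⟨H, h1, h2⟩ := h.exists_compl hG
  obtain ⟨hc, he⟩ := hH H h1
  obtain ⟨N, hN, hmax⟩ := Finite.to_wellFoundedGT.wf.has_min {N | Cyc A N} ⟨⊥, .bot⟩
  by_contra hne
  haveI : N.Normal := ⟨fun x hx g => hN.inv _ (h.1 ⟨g, rfl⟩) x hx⟩
  obtain ⟨x₀, -, hx₀, hx1, hx2⟩ := Fus.exists_central_mod (Q := ⊤) (A := N) (B := ⊤)
    (hG.to_subgroup _) le_rfl le_normalizer_of_normal le_normalizer fun h3 => hne (top_le_iff.1 h3 ▸ hN)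
  let P : Subgroup G → Prop := fun W => ¬ W ≤ N ∧ N ≤ W ∧ (∀ a ∈ A, ∀ y ∈ W, a y ∈ W) ∧
    ∀ x ∈ W, x ^ p ∈ N ∧ ∀ g : G, x⁻¹ * (g * x * g⁻¹) ∈ N
  have hcen : ∀ x : G, (∀ g : G, x⁻¹ * (g * x * g⁻¹) ∈ N) ↔ (x : G ⧸ N) ∈ center (G ⧸ N) := fun x => by
    rw [mem_center_iff, QuotientGroup.forall_mk]
    refine forall_congr' fun g => ?_
    rw [← QuotientGroup.eq, QuotientGroup.mk_mul, QuotientGroup.mk_mul, QuotientGroup.mk_inv,
      eq_mul_inv_iff_mul_eq, eq_comm]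
  obtain ⟨W, ⟨hW1, hW2, hW3, hW4⟩, hmin⟩ := Finite.to_wellFoundedLT.wf.has_min {W | P W} ⟨
    { carrier := {x | x ^ p ∈ N ∧ ∀ g : G, x⁻¹ * (g * x * g⁻¹) ∈ N}
      one_mem' := by simp
      mul_mem' := fun {x y} hx hy => ⟨by
        rw [← QuotientGroup.eq_one_iff, QuotientGroup.mk_pow, QuotientGroup.mk_mul,
          Commute.mul_pow (mem_center_iff.1 ((hcen y).1 hy.2) _), ← QuotientGroup.mk_pow,
          ← QuotientGroup.mk_pow, (QuotientGroup.eq_one_iff _).2 hx.1,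
          (QuotientGroup.eq_one_iff _).2 hy.1, one_mul],
        (hcen _).2 (mul_mem ((hcen x).1 hx.2) ((hcen y).1 hy.2))⟩
      inv_mem' := fun {x} hx => ⟨by simpa using hx.1, (hcen _).2 (inv_mem ((hcen x).1 hx.2))⟩ },
    fun h3 => hx₀ (h3 ⟨hx1, fun g => hx2 g trivial⟩),
    fun x hx => ⟨pow_mem hx p, fun g => mul_mem (inv_mem hx) (Normal.conj_mem ‹_› x hx g)⟩,
    fun a ha y hy => ⟨by simpa using hN.inv a ha _ hy.1, fun g => by
      simpa using hN.inv a ha _ (hy.2 (a⁻¹ g))⟩, fun x hx => hx⟩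
  have hscal : ∀ β ∈ H, β ∈ A → ∃ a : ℕ, ∀ w ∈ W, (w ^ a)⁻¹ * β w ∈ N := fun β hβ hβA => by
    obtain ⟨w, hw, hwN, a, ha⟩ := exists_eigen_mod hW1 (fun x hx => (hW4 x hx).1)
      (fun x hx y hy => by simpa [mul_assoc] using (hW4 _ (inv_mem hx)).2 y) (hN.inv β hβA)
      (hW3 β hβA) fun x _ => by simp [he β hβ]
    have hq : ∀ w : G, (w ^ a)⁻¹ * β w ∈ N ↔ (w : G ⧸ N) ^ a = β w := fun w => by
      rw [← QuotientGroup.eq, QuotientGroup.mk_pow]
    let W' : Subgroup G :=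
      { carrier := {w | w ∈ W ∧ (w ^ a)⁻¹ * β w ∈ N}
        one_mem' := by simp
        mul_mem' := fun {x y} hx hy => ⟨mul_mem hx.1 hy.1, by
          rw [hq, map_mul, QuotientGroup.mk_mul, QuotientGroup.mk_mul, ← (hq x).1 hx.2,
            ← (hq y).1 hy.2, Commute.mul_pow (mem_center_iff.1 ((hcen y).1 (hW4 y hy.1).2) _)]⟩
        inv_mem' := fun {x} hx => ⟨inv_mem hx.1, by
          rw [hq, map_inv, QuotientGroup.mk_inv, QuotientGroup.mk_inv, ← (hq x).1 hx.2, inv_pow]⟩ }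
    have h3 : W' = W := by
      by_contra h3
      refine hmin W' ⟨fun h4 => hwN (h4 ⟨hw, ha⟩), fun x hx => ⟨hW2 hx,
        mul_mem (inv_mem (pow_mem hx a)) (hN.inv β hβA x hx)⟩, fun α hα y hy => ⟨hW3 α hα y hy.1, ?_⟩,
        fun x hx => hW4 x hx.1⟩ (lt_of_le_of_ne (fun x hx => hx.1) h3)
      obtain ⟨γ, hγ, hγA, g, rfl⟩ := h2 α hα
      have h4 := hN.inv γ hγA _ hy.2
      have h5 : γ * β = β * γ := congrArg Subtype.val (hc.1.1 ⟨γ, hγ⟩ ⟨β, hβ⟩)
      rw [map_mul, map_inv, map_pow, ← MulAut.mul_apply, h5, MulAut.mul_apply, hq] at h4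
      have h6 := fun g => QuotientGroup.eq.2 ((hW4 _ (hW3 γ hγA y hy.1)).2 g)
      have h7 := fun g => QuotientGroup.eq.2 ((hW4 _ (hW3 β hβA _ (hW3 γ hγA y hy.1))).2 g)
      rw [hq, MulAut.mul_apply, MulAut.conj_apply, ← h6, h4, h7 (β g)]
      simp
    exact ⟨a, fun w hw => (h3.ge hw).2⟩
  obtain ⟨w, hw, hwN⟩ := SetLike.not_le_iff_exists.1 hW1
  refine hmax (N ⊔ zpowers w) (Cyc.step N w hN fun α hα y hy => ?_)
    (lt_of_le_of_ne le_sup_left fun h3 => hwN (h3.ge (mem_sup_right (mem_zpowers w))))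
  refine (sup_le (fun x hx => mem_sup_left (hN.inv α hα x hx)) (zpowers_le.2 ?_) :
    _ ≤ (N ⊔ zpowers w).comap α.toMonoidHom) hy
  obtain ⟨γ, hγ, hγA, g, rfl⟩ := h2 α hα
  obtain ⟨a, ha⟩ := hscal γ hγ hγA
  simpa using mul_mem (mul_mem (mem_sup_right (pow_mem (mem_zpowers w) a)) (mem_sup_left (ha w hw)))
    (mem_sup_left ((hW4 _ (hW3 γ hγA w hw)).2 g))

theorem forall_adm_iff (hG : IsPGroup p G) : (∀ A : Subgroup (MulAut G), Adm p A → Cyc A ⊤) ↔
    ∀ H : Subgroup (MulAut G), (Nat.card H).Coprime p →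
      IsMulCommutative H ∧ ∀ h ∈ H, h ^ (p - 1) = 1 :=
  ⟨fun h H hH => PFlag.comm_of_coprime hG
    (by simpa using ((h _ (adm_sup hH)).pFlag hG).mono le_sup_left) hH, fun h _ hA => hA.cyc hG h⟩

end Cfsg.Agent.H8
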