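import Mathlib
import Cfsg.Agent.H8.SSGrp
import Cfsg.Agent.H8.Res
import Cfsg.Agent.H7.More

/-!
Supersoluble fusion systems.
-/

set_option autoImplicit false

namespace Cfsg.Agent.H8

open Equiv Cfsg.Fus Cfsg.FusionSystem Subgroup

variable {Ω : Type*} [Group Ω] {S T Q : Subgroup Ω} {F : FusionSystem S} {p : ℕ}

/-- The supersolubility condition as in the statements. -/
def SSTo (F : FusionSystem S) (T : Subgroup Ω) : Prop :=
  ∃ (m : ℕ) (c : Fin (m + 1) → Subgroup Ω), c 0 = ⊥ ∧ c (Fin.last m) = T ∧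
    (∀ i : Fin (m + 1), F.StronglyClosed (c i)) ∧
    ∀ i : Fin m, c i.castSucc ≤ c i.succ ∧ ∃ x ∈ S, c i.succ = c i.castSucc ⊔ Subgroup.zpowers x

/-- Chains of strongly closed subgroups with cyclic steps. -/
inductive SCh (F : FusionSystem S) : Subgroup Ω → Prop
  | bot : SCh F ⊥
  | step (L : Subgroup Ω) (x : Ω) : SCh F L → F.StronglyClosed (L ⊔ zpowers x) →
      SCh F (L ⊔ zpowers x)

theorem SCh.sc (h : SCh F T) : F.StronglyClosed T := by
  cases h with
  | bot => exact F.stronglyClosed_bot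
  | step L x _ h => exact h

theorem ssTo_iff : SSTo F T ↔ SCh F T := by
  constructor
  · rintro ⟨m, c, h0, rfl, h1, h2⟩
    suffices H : ∀ i, SCh F (c i) from H _
    intro i
    induction i using Fin.induction with
    | zero => exact h0 ▸ .bot
    | succ i ih =>
      obtain ⟨-, x, -, h3⟩ := h2 i
      exact h3 ▸ SCh.step _ x ih (h3 ▸ h1 _)
  · intro h
    induction h with
    | bot => exact ⟨0, fun _ => ⊥, rfl, rfl, fun _ => F.stronglyClosed_bot, fun i => i.elim0⟩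
    | step L x _ h ih =>
      obtain ⟨m, c, h0, rfl, h1, h2⟩ := ih
      refine ⟨m + 1, Fin.snoc c (c (Fin.last m) ⊔ zpowers x), by simpa using h0, by simp,
        fun i => ?_, fun i => ?_⟩
      · induction i using Fin.lastCases with
        | last => simpa using h
        | cast i => simpa using h1 i
      · induction i using Fin.lastCases with
        | last => simpa using ⟨x, h.le (mem_sup_right (mem_zpowers x)), rfl⟩
        | cast i => simpa only [← Fin.castSucc_succ, Fin.snoc_castSucc] using h2 i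

theorem exists_gen_of_le_sup {G : Type*} [Group G] {N Q : Subgroup G} [N.Normal] {b : G}
    (h : Q ≤ zpowers b ⊔ N) : ∃ y ∈ Q, ∀ g ∈ Q, ∃ k : ℤ, (y ^ k)⁻¹ * g ∈ N := by
  haveI : IsCyclic (Q.map (QuotientGroup.mk' N)) := by
    refine Subgroup.isCyclic_of_le (H' := zpowers (b : G ⧸ N)) ?_
    rintro _ ⟨g, hg, rfl⟩
    obtain ⟨_, ⟨k, rfl⟩, n, hn, rfl⟩ := mem_sup_of_normal_right.1 (h hg)
    exact ⟨k, by simp [(QuotientGroup.eq_one_iff n).2 hn]⟩
  obtain ⟨c, hc⟩ := (Subgroup.isCyclic_iff_exists_zpowers_eq_top _).1 this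
  obtain ⟨y, hy, rfl⟩ := hc.le (mem_zpowers c)
  refine ⟨y, hy, fun g hg => ?_⟩
  obtain ⟨k, hk⟩ := hc.ge (mem_map_of_mem _ hg)
  exact ⟨k, QuotientGroup.eq.1 hk⟩

theorem SCh.cyc (h : SCh F T) (hQ : Q ≤ S) : Cyc (F.autGroup Q) (T.subgroupOf Q) := by
  induction h with
  | bot => simpa using Cyc.bot
  | step L x h1 h2 ih =>
    haveI := h1.sc.normal_subgroupOf
    have hx := h2.le (mem_sup_right (mem_zpowers x))
    obtain ⟨y, hy, h3⟩ := exists_gen_of_le_sup (N := L.subgroupOf S) (b := ⟨x, hx⟩)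
      (Q := (Q ⊓ (L ⊔ zpowers x)).subgroupOf S) fun g hg => by
        have h3 := (map_subgroupOf_eq_of_le h1.sc.le).ge
        obtain ⟨g', h4, h5⟩ := (show L ⊔ zpowers x ≤ (zpowers ⟨x, hx⟩ ⊔ L.subgroupOf S).map S.subtype
          from sup_le (h3.trans (map_mono le_sup_right))
            (zpowers_le.2 (mem_map_of_mem _ (mem_sup_left (mem_zpowers _))))) hg.2
        exact (Subtype.ext h5 : g' = g) ▸ h4
    have h4 : (L ⊔ zpowers x).subgroupOf Q = L.subgroupOf Q ⊔ zpowers ⟨y, hy.1⟩ := by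
      refine le_antisymm (fun g hg => ?_) (sup_le (comap_mono le_sup_left) (zpowers_le.2 hy.2))
      obtain ⟨k, hk⟩ := h3 ⟨g, hQ g.2⟩ ⟨g.2, hg⟩
      simpa using mul_mem (mem_sup_right (zpow_mem (mem_zpowers (⟨y, hy.1⟩ : Q)) k))
        (mem_sup_left (show ((⟨y, hy.1⟩ : Q) ^ k)⁻¹ * g ∈ L.subgroupOf Q from hk))
    refine h4 ▸ Cyc.step _ _ ih (h4 ▸ fun a ha y hy => ?_)
    exact mem_subgroupOf.2 (extAut_coe a y ▸ h2.mem ((F.mem_autGroup_iff hQ).1 ha).isMap y.2 hy)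

theorem PFlag.stab {G : Type*} [Group G] [Finite G] [Fact p.Prime] (hG : IsPGroup p G)
    {A : Subgroup (MulAut G)} {M : Subgroup G} (h : PFlag p A M) : Stab p A (pElts p A) M := by
  induction h with
  | base => exact .pbase le_rfl
  | step L M h1 _ h3 h4 ih => exact ih.pstep hG h1.inv h3 h4

theorem SCh.isNormal [Fact p.Prime] [Finite S] (hF : F.IsSaturated p) (hS : IsPGroup p S)
    (h : SCh F S) : F.IsNormal S := by
  by_contra h1
  obtain ⟨Q, hQ⟩ := exists_bad F.stronglyClosed_top hF hS h1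
  haveI := finite_of_le hQ.lt.le
  have hQp := isPGroup_of_le hS hQ.lt.le
  refine hQ.not_stab le_rfl hS (PFlag.stab hQp ?_)
  simpa [subgroupOf_eq_top.2 hQ.lt.le] using (h.cyc hQ.lt.le).pFlag hQp

theorem sCh_of_cyc [Finite S] (hn : F.IsNormal S) {M : Subgroup S} (h : Cyc (F.autGroup S) M) :
    SCh F (M.map S.subtype) := by
  induction h with
  | bot => simpa using SCh.bot
  | step L x _ h ih =>
    have h1 : (L ⊔ zpowers x).map S.subtype = L.map S.subtype ⊔ zpowers (x : Ω) := by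
      rw [Subgroup.map_sup, MonoidHom.map_zpowers]; rfl
    refine h1 ▸ SCh.step _ _ ih (h1 ▸ stronglyClosed_iff.2 ⟨map_subtype_le _, ?_⟩)
    rintro R f hf _ hx ⟨y, hy, rfl⟩
    obtain ⟨α, hα, h2⟩ := hn.exists_aut hf
    exact ⟨_, h _ hα.resAut_mem y hy, (resAut_apply hα.mem_autStab y).trans (h2 _ hx)⟩

theorem ssTo_iff_cyc [Fact p.Prime] [Finite S] (hF : F.IsSaturated p) (hS : IsPGroup p S) :
    SSTo F S ↔ F.IsNormal S ∧ Cyc (F.autGroup S) ⊤ :=
  ssTo_iff.trans ⟨fun h => ⟨h.isNormal hF hS, by simpa using h.cyc le_rfl⟩, fun h => by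
    simpa [← MonoidHom.range_eq_map] using sCh_of_cyc h.1 h.2⟩

theorem adm_autGroup [Fact p.Prime] [Finite S] (hF : F.IsSaturated p) : Adm p (F.autGroup S) :=
  ⟨liftAut_le_iff.1 (innS_self S ▸ F.innS_le_stab le_rfl), fun _ => mem_Inn_of_pElt hF⟩

theorem Adm.exists_system [Fact p.Prime] [Finite S] (hS : IsPGroup p S) {A : Subgroup (MulAut S)}
    (h : Adm p A) : ∃ F : FusionSystem S, F.IsSaturated p ∧ F.autGroup S = A :=
  ⟨autSys S (liftAut S A) (innS_self S ▸ liftAut_le_iff.2 h.1) (liftAut_le_autStab S A),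
    isSaturated_autSys hS fun γ hγ ⟨k, hk⟩ => innS_self S ▸ mem_liftAut.2 ⟨(mem_liftAut.1 hγ).1,
      h.2 _ (mem_liftAut.1 hγ).2 ⟨k, (resAut_pow_eq_one_iff (mem_liftAut.1 hγ).1 _).2 hk⟩⟩,
    liftAut_injective S stab_autSys⟩

theorem forall_ssTo_iff [Fact p.Prime] [Finite S] (hS : IsPGroup p S) :
    (∀ F : FusionSystem S, F.IsSaturated p → SSTo F S) ↔
      (∀ F : FusionSystem S, F.IsSaturated p → F.IsNormal S) ∧ ∀ H : Subgroup (MulAut S),
        (Nat.card H).Coprime p → IsMulCommutative H ∧ ∀ h ∈ H, h ^ (p - 1) = 1 := by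
  rw [← forall_adm_iff hS]
  refine ⟨fun h => ⟨fun F hF => ((ssTo_iff_cyc hF hS).1 (h F hF)).1, fun A hA => ?_⟩,
    fun h F hF => (ssTo_iff_cyc hF hS).2 ⟨h.1 F hF, h.2 _ (adm_autGroup hF)⟩⟩
  obtain ⟨F, hF, rfl⟩ := hA.exists_system hS
  exact ((ssTo_iff_cyc hF hS).1 (h F hF)).2

end Cfsg.Agent.H8
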