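import Mathlib
import Cfsg.Agent.H8.SS

/-!
Abelian groups of supersoluble type.
-/

set_option autoImplicit false

namespace Cfsg.Agent.H8

open Subgroup

/-- All `p'`-groups of automorphisms are abelian of exponent dividing `p - 1`. -/
def PC (p : ℕ) (G : Type*) [Group G] : Prop :=
  ∀ H : Subgroup (MulAut G), (Nat.card H).Coprime p → IsMulCommutative H ∧ ∀ h ∈ H, h ^ (p - 1) = 1

theorem PC.of_equiv {p : ℕ} {G G' : Type*} [Group G] [Group G'] (h : PC p G) (e : G ≃* G') :
    PC p G' := fun H hH => by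
  have hi := (MulAut.congr e).symm.injective
  obtain ⟨h1, h2⟩ := h (H.map (MulAut.congr e).symm.toMonoidHom)
    (by rwa [card_map_of_injective hi])
  exact ⟨⟨⟨fun a b => Subtype.ext (hi (by
    rw [coe_mul, coe_mul, map_mul, map_mul]
    exact congrArg Subtype.val (h1.1.1 ⟨_, mem_map_of_mem _ a.2⟩ ⟨_, mem_map_of_mem _ b.2⟩)))⟩⟩,
    fun a ha => hi (by rw [map_pow, map_one]; exact h2 _ (mem_map_of_mem _ ha))⟩

section counter

variable (C K : Type*) [CommGroup C] [Group K]

/-- A rotation of order four. -/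
def rot4 : MulAut ((C × C) × K) where
  toFun x := ((x.1.2⁻¹, x.1.1), x.2)
  invFun x := ((x.1.2, x.1.1⁻¹), x.2)
  left_inv x := by simp
  right_inv x := by simp
  map_mul' x y := by simp [mul_comm]

/-- The swap. -/
def swap2 : MulAut ((C × C) × K) where
  toFun x := ((x.1.2, x.1.1), x.2)
  invFun x := ((x.1.2, x.1.1), x.2)
  left_inv x := by simp
  right_inv x := by simp
  map_mul' x y := by simp

/-- A rotation of order three. -/
def rot3 : MulAut ((C × C) × K) where
  toFun x := ((x.1.2⁻¹, x.1.1 * x.1.2⁻¹), x.2)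
  invFun x := ((x.1.2 * x.1.1⁻¹, x.1.1⁻¹), x.2)
  left_inv x := by simp
  right_inv x := by simp
  map_mul' x y := by simp [mul_comm, mul_left_comm, mul_assoc]

variable {C}

theorem not_pc_prod [Finite C] [Finite K] {p : ℕ} [hp : Fact p.Prime] {c : C} (hc : c ≠ 1)
    (hcp : c ^ p = 1) : ¬ PC p ((C × C) × K) := fun h => by
  by_cases hp2 : p = 2
  · subst hp2
    have h1 : rot3 C K ^ 3 = 1 := by ext x <;> simp [rot3, pow_succ]
    have h2 := (h (zpowers (rot3 C K)) (Nat.Coprime.coprime_dvd_left (k := 3)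
      (by rw [Nat.card_zpowers]; exact orderOf_dvd_of_pow_eq_one h1) (by norm_num))).2 _ (mem_zpowers _)
    exact hc (by simpa [rot3] using congrArg (fun α => (α ((c, 1), 1)).1.1) h2.symm)
  · have hz : ∀ α : MulAut ((C × C) × K), α ^ 2 ^ 2 = 1 → IsPGroup 2 (zpowers α) := by
      rintro α hα ⟨_, k, rfl⟩
      exact ⟨2, Subtype.ext (show (α ^ k) ^ 2 ^ 2 = 1 by
        rw [← zpow_natCast, ← zpow_mul, mul_comm, zpow_mul, zpow_natCast, hα, one_zpow])⟩
    have h1 : IsPGroup 2 (zpowers (swap2 C K) ⊔ zpowers (rot4 C K) : Subgroup _) :=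
      (hz _ (by ext x <;> simp [swap2, pow_succ])).to_sup_of_normal_right'
        (hz _ (by ext x <;> simp [rot4, pow_succ])) (zpowers_le.2 (Fus.mem_normalizer_of_finite (by
          rintro _ ⟨k, rfl⟩
          rw [← conj_zpow, show swap2 C K * rot4 C K * (swap2 C K)⁻¹ = (rot4 C K)⁻¹ by
            ext x <;> simp [swap2, rot4, MulAut.inv_def]]
          exact zpow_mem (inv_mem (mem_zpowers _)) k)))
    obtain ⟨n, hn⟩ := IsPGroup.iff_card.1 h1
    have h2 := congrArg (fun α => (α.1 ((c, 1), 1)).1.1) ((h _ (hn ▸ ((Nat.coprime_primes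
      Nat.prime_two hp.out).2 (Ne.symm hp2)).pow_left n)).1.1.1
      ⟨_, mem_sup_left (mem_zpowers _)⟩ ⟨_, mem_sup_right (mem_zpowers _)⟩)
    have h3 : c ^ 2 = 1 := by rw [sq, ← eq_inv_iff_mul_eq_one]; exact h2
    exact hc ((pow_eq_one_iff_of_coprime ((Nat.coprime_primes Nat.prime_two hp.out).2
      (Ne.symm hp2))).1 ⟨h3, hcp⟩)

theorem not_pc_zmod [Finite K] {p n : ℕ} [hp : Fact p.Prime] (hn : 0 < n) :
    ¬ PC p ((Multiplicative (ZMod (p ^ n)) × Multiplicative (ZMod (p ^ n))) × K) := by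
  haveI : NeZero (p ^ n) := ⟨pow_ne_zero _ hp.out.ne_zero⟩
  obtain ⟨n, rfl⟩ := Nat.exists_eq_succ_of_ne_zero hn.ne'
  refine not_pc_prod K (c := Multiplicative.ofAdd ((p ^ n : ℕ) : ZMod (p ^ (n + 1)))) ?_ ?_
  · rw [Ne, ofAdd_eq_one, ZMod.natCast_eq_zero_iff, Nat.pow_dvd_pow_iff_le_right hp.out.one_lt]
    omega
  · rw [← ofAdd_nsmul, ofAdd_eq_one, nsmul_eq_mul, ← Nat.cast_mul, ← pow_succ', ZMod.natCast_self]

end counter

variable {G : Type*} [Group G] [Finite G] {p : ℕ} [hp : Fact p.Prime]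

theorem PFlag.isPGroup_two (hG : IsPGroup 2 G) {A : Subgroup (MulAut G)} (h : PFlag 2 A ⊤) :
    IsPGroup 2 A := by
  suffices H : ∀ M, PFlag 2 A M → Stab 2 A A M from (H _ h).isPGroup
  intro M hM
  induction hM with
  | base => exact .base le_rfl le_rfl
  | step L M h1 _ h3 h4 ih => exact ih.step_two hG h1.inv h3 h4

theorem pFlag_of_distinct (hG : IsPGroup p G) {ι : Type*} [Fintype ι] {a : ι → ℕ}
    (ha : Function.Injective a) (e : G ≃* ((i : ι) → Multiplicative (ZMod (p ^ a i))))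
    (A : Subgroup (MulAut G)) : PFlag p A ⊤ := by
  classical
  letI : CommGroup G := { (inferInstance : Group G) with
    mul_comm := fun x y => e.injective (by rw [map_mul, map_mul, mul_comm]) }
  let g : ι → G := fun i => e.symm (Pi.mulSingle i (Multiplicative.ofAdd 1))
  have hg : ∀ i (c : ℕ), g i ^ c = e.symm (Pi.mulSingle i (Multiplicative.ofAdd (c : ZMod _))) :=
    fun i c => by rw [← map_pow, ← Pi.mulSingle_pow, ← ofAdd_nsmul, nsmul_one]
  let M : ℕ → Subgroup G := fun k => (powMonoidHom (p ^ k)).ker ⊔ frattini G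
  have key : ∀ k, PFlag p A (M k) := fun k => by
    induction k with
    | zero =>
      rw [show M 0 = frattini G from sup_eq_right.2 fun x hx => by
        rw [show x = 1 by simpa using hx]; exact one_mem _]
      exact .base
    | succ k ih =>
      refine .step _ _ ih (sup_le_sup_right (fun x hx => ?_) _)
        (inv_sup (fun α _ x hx => ?_) (char_inv A)) ?_
      · rw [MonoidHom.mem_ker, powMonoidHom_apply] at hx ⊢
        rw [pow_succ, pow_mul, hx, one_pow]
      · rw [MonoidHom.mem_ker, powMonoidHom_apply] at hx ⊢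
        rw [← map_pow, hx, map_one]
      obtain ⟨u, hu⟩ : ∃ u, ∀ i, a i = k + 1 → g i = u := by
        by_cases h : ∃ i, a i = k + 1
        · obtain ⟨i, hi⟩ := h
          exact ⟨g i, fun j hj => by rw [ha (hj.trans hi.symm)]⟩
        · exact ⟨1, fun i hi => absurd ⟨i, hi⟩ h⟩
      refine relIndex_dvd_of_le_zpowers_sup (x := u) (mem_sup_right (pow_mem_frattini hG u))
        (sup_le (fun x hx => ?_) (le_sup_of_le_right le_sup_right))
      have h1 : x = ∏ i, g i ^ (e x i).toAdd.val := by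
        haveI : ∀ i, NeZero (p ^ a i) := fun i => ⟨pow_ne_zero _ hp.out.ne_zero⟩
        simp only [hg, ZMod.natCast_zmod_val, ofAdd_toAdd, ← map_prod, Finset.univ_prod_mulSingle,
          MulEquiv.symm_apply_apply]
      rw [h1]
      refine prod_mem fun i _ => ?_
      rcases lt_trichotomy (a i) (k + 1) with h | h | h
      · refine pow_mem (mem_sup_right (mem_sup_left ?_)) _
        rw [MonoidHom.mem_ker, powMonoidHom_apply, hg, (ZMod.natCast_eq_zero_iff _ _).2
          (pow_dvd_pow p (by omega))]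
        simp
      · exact pow_mem (mem_sup_left (hu i h ▸ mem_zpowers _)) _
      · haveI : NeZero (p ^ a i) := ⟨pow_ne_zero _ hp.out.ne_zero⟩
        have h2 := congrArg (fun y => (e y i).toAdd) (MonoidHom.mem_ker.1 hx)
        simp only [powMonoidHom_apply, map_pow, Pi.pow_apply, toAdd_pow, map_one, Pi.one_apply,
          toAdd_one, nsmul_eq_mul] at h2
        rw [← ZMod.natCast_zmod_val (e x i).toAdd, ← Nat.cast_mul, ZMod.natCast_eq_zero_iff] at h2
        obtain ⟨c, hc⟩ := (Nat.mul_dvd_mul_iff_left (pow_pos hp.out.pos (k + 1))).1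
          ((pow_succ p (k + 1) ▸ pow_dvd_pow p h).trans h2)
        rw [hc, pow_mul]
        exact pow_mem (mem_sup_right (mem_sup_right (pow_mem_frattini hG _))) _
  obtain ⟨k, hk⟩ := Fus.exists_pow_eq_one_of_isPGroup (S := ⊤) (hG.to_subgroup _)
  exact (eq_top_iff.2 fun x _ => mem_sup_left (hk x trivial) : M k = ⊤) ▸ key k

theorem exists_distinct_or (hG : IsPGroup p G) (hc : ∀ x y : G, x * y = y * x) :
    (∃ (ι : Type) (_ : Fintype ι) (a : ι → ℕ), Function.Injective a ∧
      Nonempty (G ≃* ((i : ι) → Multiplicative (ZMod (p ^ a i))))) ∨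
    ∃ (n : ℕ) (H : Type) (_ : CommGroup H), 0 < n ∧
      Nonempty (G ≃* (Multiplicative (ZMod (p ^ n)) × Multiplicative (ZMod (p ^ n))) × H) := by
  classical
  letI : CommGroup G := { (inferInstance : Group G) with mul_comm := hc }
  obtain ⟨ι, _, n, hn, ⟨e⟩⟩ := CommGroup.equiv_prod_multiplicative_zmod_of_finite G
  have h1 : ∀ i, ∃ k, n i = p ^ k := fun i => by
    obtain ⟨k, hk⟩ := IsPGroup.iff_orderOf.1 (hG.of_equiv e) (Pi.mulSingle i (Multiplicative.ofAdd 1))
    have := orderOf_injective (MonoidHom.mulSingle (fun i => Multiplicative (ZMod (n i))) i)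
      (fun _ _ h => Pi.mulSingle_injective i h) (Multiplicative.ofAdd 1)
    rw [orderOf_ofAdd_eq_addOrderOf, ZMod.addOrderOf_one] at this
    exact ⟨k, this.symm.trans hk⟩
  choose a ha using h1
  obtain rfl : n = fun i => p ^ a i := funext ha
  by_cases h : Function.Injective a
  · exact Or.inl ⟨ι, ‹_›, a, h, ⟨e⟩⟩
  simp only [Function.Injective, not_forall] at h
  obtain ⟨i, j, h1, h2⟩ := h
  refine Or.inr ⟨a i, (k : {k // k ≠ i ∧ k ≠ j}) → Multiplicative (ZMod (p ^ a k)), inferInstance,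
    Nat.pos_of_ne_zero fun h0 => by simpa [h0] using hn i, ⟨e.trans (MulEquiv.ofBijective
      (((Pi.evalMonoidHom _ i).prod ((ZMod.ringEquivCongr (congrArg (p ^ ·) h1.symm)).toAddEquiv.toMultiplicative.toMonoidHom.comp
        (Pi.evalMonoidHom _ j))).prod (MonoidHom.pi fun k => Pi.evalMonoidHom _ k.1)) ⟨?_, ?_⟩)⟩⟩
  · rw [injective_iff_map_eq_one]
    intro x hx
    funext k
    by_cases hi : k = i
    · subst hi; exact congrArg (·.1.1) hx
    by_cases hj : k = j
    · subst hj; simpa using congrArg (·.1.2) hx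
    · exact congrFun (congrArg (·.2) hx) ⟨k, hi, hj⟩
  · rintro ⟨⟨x, y⟩, z⟩
    refine ⟨Function.update (Function.update (fun k => if h : k ≠ i ∧ k ≠ j then z ⟨k, h⟩ else 1) i x) j
      ((ZMod.ringEquivCongr (congrArg (p ^ ·) h1.symm)).toAddEquiv.toMultiplicative.symm y), ?_⟩
    refine Prod.ext (Prod.ext ?_ ?_) (funext fun k => ?_)
    · simp [Function.update_of_ne h2]
    · simp
    · simp [Function.update_of_ne k.2.1, Function.update_of_ne k.2.2, k.2]

end Cfsg.Agent.H8
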