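import Mathlib
import Cfsg.Agent.H8.SSAb
import Cfsg.Agent.H8.GenES
import Cfsg.Agent.H1.Rank2
import Cfsg.Agent.H2.Qd

/-!
Essential subgroups of small order or rank.
-/

set_option autoImplicit false

namespace Cfsg.Agent.H8

open Subgroup MatrixGroups
open scoped commutatorElement

variable {G : Type*} [Group G] [Finite G] {p : ℕ} [hp : Fact p.Prime] {A : Subgroup (MulAut G)}

theorem exists_fix_mod (hG : IsPGroup p G) {α : MulAut G} {k : ℕ} (hα : α ^ p ^ k = 1)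
    {N : Subgroup G} (hN : ∀ y ∈ N, α y ∈ N) (h : N ≠ ⊤) : ∃ x ∉ N, x⁻¹ * α x ∈ N := by
  classical
  let f : Function.End (G ⧸ N) := Quotient.map' α fun a b hab => by
    rw [QuotientGroup.leftRel_apply] at hab ⊢
    simpa using hN _ hab
  have hf : ∀ (n : ℕ) (x : G), (f ^ n) (x : G ⧸ N) = ((α ^ n) x : G) := fun n => by
    induction n with
    | zero => exact fun _ => rfl
    | succ n ih => exact fun x => by rw [pow_succ, pow_succ]; exact ih (α x)
  haveI := Fintype.ofFinite (G ⧸ N)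
  have h1 := Equiv.Perm.card_fixedPoints_modEq (f := f) (p := p) (n := k) (funext (by
    rintro ⟨x⟩
    exact (hf _ x).trans (by rw [hα]; rfl)))
  obtain ⟨n, hn⟩ := hG.index N
  have h2 : p ∣ Fintype.card (Function.fixedPoints f) := (Nat.modEq_zero_iff_dvd.1 (h1.symm.trans
    (Nat.modEq_zero_iff_dvd.2 (by
      rw [← Nat.card_eq_fintype_card, ← index_eq_card, hn]
      exact dvd_pow_self p fun h0 => h (index_eq_one.1 (by rw [hn, h0, pow_zero]))))))
  let o : Function.fixedPoints f := ⟨((1 : G) : G ⧸ N), congrArg QuotientGroup.mk (map_one α)⟩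
  obtain ⟨⟨⟨x⟩, hx⟩, h3⟩ := Fintype.exists_ne_of_one_lt_card (hp.out.one_lt.trans_le
    (Nat.le_of_dvd (Fintype.card_pos_iff.2 ⟨o⟩) h2)) o
  exact ⟨x, fun h4 => h3 (Subtype.ext (QuotientGroup.eq.2 (by simpa using h4))),
    QuotientGroup.eq.1 (show (x : G ⧸ N) = α x from hx.symm)⟩

theorem index_sup_eq (hG : IsPGroup p G) {L : Subgroup G} (hr : L.index ∣ p ^ 2) {x y : G}
    (hx : x ∉ L) (hy : y ∉ L ⊔ zpowers x) :
    (L ⊔ zpowers x).index = p ∧ L ⊔ zpowers x ⊔ zpowers y = ⊤ := by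
  have h1 := (relIndex_dvd_of_between hG (le_sup_left : L ≤ L ⊔ zpowers x) le_top
    (by rwa [relIndex_top_right]) (fun h => hx (h (mem_sup_right (mem_zpowers x))))
    fun h => hy (h trivial)).2
  have h2 := ((Nat.dvd_prime hp.out).1 h1).resolve_left fun h => hy (relIndex_eq_one.1 h trivial)
  exact ⟨by rwa [relIndex_top_right] at h2, H1.sup_zpowers_eq le_top h2 trivial hy⟩

theorem exists_gen_two (hr : ¬ IsCyclic G) :
    ∃ x ∉ frattini G, ∃ y, y ∉ frattini G ⊔ zpowers x := by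
  have h : ∀ x : G, ∃ y, y ∉ frattini G ⊔ zpowers x := fun x => by
    by_contra! h
    exact hr (isCyclic_iff_exists_zpowers_eq_top.2 ⟨x, frattini_nongenerating
      (eq_top_iff.2 fun g _ => sup_comm (frattini G) _ ▸ h g)⟩)
  obtain ⟨x, hx⟩ := h 1
  exact ⟨x, fun h1 => hx (mem_sup_left h1), h x⟩

theorem EssAut.homocyclic (hG : IsPGroup p G) (h : EssAut p A) (hc : ∀ a b : G, a * b = b * a)
    (hr : (frattini G).index ∣ p ^ 2) : ∃ n, 0 < n ∧ (n = 1 ∨ p ≤ 3) ∧
      Nonempty (G ≃* Multiplicative (ZMod (p ^ n)) × Multiplicative (ZMod (p ^ n))) := by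
  letI : CommGroup G := { (inferInstance : Group G) with mul_comm := hc }
  have hnf := noFlag_of_not_stab hG hr h.not_stab
  obtain ⟨x, hx, y, hy⟩ := exists_gen_two (h.not_isCyclic hG)
  have h1 : zpowers x ⊔ zpowers y = ⊤ :=
    frattini_nongenerating (by rw [← (index_sup_eq hG hr hx hy).2]; ac_rfl)
  obtain ⟨n, hn, ⟨e⟩⟩ := hnf.homocyclic hG hc (x := x) (y := y) (fun g => by
    obtain ⟨a, ha, _, ⟨j, rfl⟩, rfl⟩ := mem_sup.1 (h1.ge (mem_top g))
    exact ⟨j, by simpa using ha⟩) (h.not_isCyclic hG)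
  refine ⟨n, hn, ?_, ⟨e⟩⟩
  by_contra! h2
  obtain ⟨n, rfl⟩ : ∃ m, n = m + 2 := ⟨n - 2, by omega⟩
  have hp5 : 5 ≤ p := by
    have : p ≠ 4 := by rintro rfl; exact absurd hp.out (by norm_num)
    omega
  have hexp : ∀ g : G, g ^ p ^ (n + 2) = 1 := fun g => e.injective (by
    rw [map_pow, map_one]
    exact Prod.ext (ZModModule.char_nsmul_eq_zero (p ^ (n + 2)) (e g).1.toAdd)
      (ZModModule.char_nsmul_eq_zero (p ^ (n + 2)) (e g).2.toAdd))
  obtain ⟨u, hu, ⟨k, hk⟩, hu1, g, hg⟩ := h.exists_elt'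
  have hup : u ^ p = 1 := by rw [← hg]; ext x; simp
  obtain ⟨w, hw, hw'⟩ := exists_fix_mod hG hk (char_inv ⊤ u trivial (M := frattini G))
    fun h3 => hx (h3.ge trivial)
  have hM : ∀ a ∈ frattini G ⊔ zpowers w, u a ∈ frattini G ⊔ zpowers w := fun a ha =>
    (sup_le (fun b hb => mem_sup_left (char_inv ⊤ u trivial b hb)) (zpowers_le.2 (by
      simpa using mul_mem (mem_sup_right (mem_zpowers w)) (mem_sup_left hw'))) :
        _ ≤ (frattini G ⊔ zpowers w).comap u.toMonoidHom) ha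
  let δ : G →* G := u.toMonoidHom / MonoidHom.id G
  have hδ : ∀ a, δ a = a⁻¹ * u a := fun a => by simp [δ, div_eq_inv_mul]
  have hδ2 : ∀ a, ∃ b, δ (δ a) = b ^ p := fun a => by
    have h3 : δ a ∈ frattini G ⊔ zpowers w := by
      by_cases h3 : ∃ v, v ∉ frattini G ⊔ zpowers w
      · obtain ⟨v, hv⟩ := h3
        exact hδ a ▸ cent_of_relIndex_dvd hk hM (M := ⊤) (fun _ _ => trivial)
          (by rw [relIndex_top_right, (index_sup_eq hG hr hw hv).1]) a trivial
      · exact by_contra fun h4 => h3 ⟨_, h4⟩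
    have h4 := cent_of_relIndex_dvd hk (char_inv ⊤ u trivial) hM
      (relIndex_dvd_of_le_zpowers_sup (pow_mem_frattini hG w) (sup_comm _ _).le) _ h3
    obtain ⟨b, hb⟩ := frattini_le_of_pow_comm (N := (powMonoidHom p).range) (fun x => ⟨x, rfl⟩)
      (fun x y => by simp) h4
    exact ⟨b, (hδ _).trans hb.symm⟩
  refine hu1 (h.mem_inn_of_cent_frattini hG hu fun a => by_contra fun h3 => ?_)
  have h4 := H1.delta_pow_eq_one hp5 u.toMonoidHom δ (fun a => by simp [hδ]) (y := a ^ p ^ n)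
    ((smul_iterate_apply u p _).trans (by rw [hup, one_smul])) (by
      obtain ⟨b, hb⟩ := hδ2 a
      rw [map_pow, map_pow, hb, ← pow_mul, ← pow_mul, ← hexp b]; congr 1; ring) (by
      obtain ⟨b, hb⟩ := hδ2 a
      obtain ⟨c, hc⟩ := hδ2 b
      simp only [map_pow, hb, hc]
      rw [← pow_mul, ← pow_mul, ← hexp c]; congr 1; ring)
  rw [map_pow, ← pow_mul, ← pow_succ, hδ] at h4
  have h5 := congrArg (fun g => (e g).1.toAdd)
    (hnf.pow_eq_one hc h3 h4 (e.symm (Multiplicative.ofAdd 1, 1)))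
  simp only [map_pow, MulEquiv.apply_symm_apply, Prod.pow_fst, toAdd_pow, toAdd_ofAdd, nsmul_one,
    map_one, Prod.fst_one, toAdd_one, ZMod.natCast_eq_zero_iff,
    Nat.pow_dvd_pow_iff_le_right hp.out.one_lt] at h5
  omega

theorem EssAut.exists_sl2 (hG : IsPGroup p G) (h : EssAut p A) (hcard : Nat.card G = p ^ 2) :
    (∀ a b : G, a * b = b * a) ∧ (∀ a : G, a ^ p = 1) ∧
      ∃ K : Subgroup A, Nonempty (K ≃* SL(2, ZMod p)) := by
  have hc : ∀ a b : G, a * b = b * a := (IsPGroup.isMulCommutative_of_card_eq_prime_sq hcard).1.1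
  letI : CommGroup G := { (inferInstance : Group G) with mul_comm := hc }
  have he : ∀ a : G, a ^ p = 1 := fun a => by
    obtain ⟨k, hk, h1⟩ := (Nat.dvd_prime_pow hp.out).1 (hcard ▸ orderOf_dvd_natCard a)
    refine orderOf_dvd_iff_pow_eq_one.1 (h1 ▸ (pow_dvd_pow p ?_).trans (pow_one p).dvd)
    by_contra h2
    exact h.not_isCyclic hG (isCyclic_of_orderOf_eq_card a (by rw [h1, hcard]; congr 1; omega))
  have hF : frattini G = ⊥ := le_bot_iff.1 (frattini_le_of_pow_comm he fun x y => by simp)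
  have hr : (⊥ : Subgroup G).index ∣ p ^ 2 := by rw [index_bot, hcard]
  obtain ⟨u, hu, ⟨k, hk⟩, hu1⟩ := h.exists_elt
  have hu1' : u ≠ 1 := by rintro rfl; exact hu1 (one_mem _)
  obtain ⟨z, hz, hz'⟩ := exists_fix_mod hG hk (N := ⊥) (by simp) fun h1 => hu1' (by
    ext x; rw [mem_bot.1 (h1.ge (mem_top x)), map_one, map_one])
  have huz : u z = z := (inv_mul_eq_one.1 hz').symm
  obtain ⟨γ, hγ, hγz⟩ : ∃ γ ∈ A, γ z ∉ zpowers z := by
    by_contra! h1
    rcases noFlag_of_not_stab hG (hF ▸ hr) h.not_stab (zpowers z) (by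
      rintro α hα _ ⟨k, rfl⟩
      rw [map_zpow]; exact zpow_mem (h1 α hα) k) with h2 | h2
    · exact hz (hF ▸ h2 (mem_zpowers z))
    · exact h.not_isCyclic hG (isCyclic_iff_exists_zpowers_eq_top.2 ⟨z, h2⟩)
  obtain ⟨h1, h2⟩ := index_sup_eq hG hr hz (y := γ z) (by rwa [bot_sup_eq])
  rw [bot_sup_eq] at h1 h2
  have hext : ∀ α β : MulAut G, α z = β z → α (γ z) = β (γ z) → α = β := fun α β h3 h4 =>
    MulEquiv.ext fun x => (sup_le (zpowers_le.2 h3) (zpowers_le.2 h4) :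
      _ ≤ α.toMonoidHom.eqLocus β.toMonoidHom) (h2.ge (mem_top x))
  have t : H1.Tv p u z := ⟨hu1', he z, huz, fun a => cent_of_relIndex_dvd hk (M := ⊤) (by
    rintro _ ⟨k, rfl⟩; rw [map_zpow, huz]; exact zpow_mem (mem_zpowers z) k) (fun _ _ => trivial)
    (by rw [relIndex_top_right, h1]) a trivial⟩
  have t' := t.conj γ
  obtain ⟨i, hi⟩ := t.exists_zpow (a := γ z) (fun h3 => t.ne (hext _ _ huz h3)) 1
  obtain ⟨j, hj⟩ := t'.exists_zpow (a := z) (fun h3 => t'.ne (hext _ _ h3 t'.fix)) 1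
  let ψ : Multiplicative (Fin 2 → ZMod p) →* G := MonoidHom.mk'
    (fun v => z ^ (v.toAdd 0).val * γ z ^ (v.toAdd 1).val) fun v w => by
      simp only [toAdd_mul, Pi.add_apply, H2.pow_zmod_val_add (he _), mul_mul_mul_comm]
  have hψ : Function.Bijective ψ := (Nat.bijective_iff_surjective_and_card _).2 ⟨
    MonoidHom.range_eq_top.1 (top_le_iff.1 (h2.ge.trans (sup_le
      (zpowers_le.2 ⟨Multiplicative.ofAdd ![1, 0], by simp [ψ, ZMod.val_one]⟩)
      (zpowers_le.2 ⟨Multiplicative.ofAdd ![0, 1], by simp [ψ, ZMod.val_one]⟩)))), by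
    simp [hcard]⟩
  let e := MulEquiv.ofBijective ψ hψ
  let ρ : SL(2, ZMod p) →* MulAut G := (MulAut.congr e).toMonoidHom.comp
    ((MulAutMultiplicative _).symm.toMonoidHom.comp (DistribMulAction.toAddAut _ _))
  have hρ : ∀ M v, ρ M (ψ (Multiplicative.ofAdd v)) = ψ (Multiplicative.ofAdd (M • v)) :=
    fun M v => by
      change e _ = e _
      congr 1
      exact congrArg (fun w => Multiplicative.ofAdd (M • w.toAdd)) (e.symm_apply_apply _)
  have hz0 : z = ψ (Multiplicative.ofAdd ![1, 0]) := by simp [ψ, ZMod.val_one]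
  have hz1 : γ z = ψ (Multiplicative.ofAdd ![0, 1]) := by simp [ψ, ZMod.val_one]
  have h3 : A.comap ρ = ⊤ := H2.eq_top_of_tU_tL
    (mem_comap.2 (hext (u ^ i) (ρ (H2.tU p)) (by
      rw [H1.aut_zpow_fix huz]; conv_rhs => rw [hz0, hρ, H2.tU_smul]
      simp [ψ, ZMod.val_one]) (by
      rw [hi]; conv_rhs => rw [hz1, hρ, H2.tU_smul]
      simp [ψ, ZMod.val_one, mul_comm]) ▸ zpow_mem hu i))
    (mem_comap.2 (hext ((γ * u * γ⁻¹) ^ j) (ρ (H2.tL p)) (by
      rw [hj]; conv_rhs => rw [hz0, hρ, H2.tL_smul]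
      simp [ψ, ZMod.val_one]) (by
      rw [H1.aut_zpow_fix t'.fix]; conv_rhs => rw [hz1, hρ, H2.tL_smul]
      simp [ψ, ZMod.val_one]) ▸ zpow_mem (mul_mem (mul_mem hγ hu) (inv_mem hγ)) j))
  refine ⟨hc, he, _, ⟨(MonoidHom.ofInjective (f := ρ.codRestrict A fun M => h3.ge (mem_top M))
    ((injective_iff_map_eq_one _).2 fun M hM => H2.sl2_eq_one_of_smul fun v => ?_)).symm⟩⟩
  have h4 := hρ M v
  rw [show ρ M = 1 from congrArg Subtype.val hM] at h4
  exact (hψ.1 h4).symm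

end Cfsg.Agent.H8
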