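import Mathlib
import Cfsg.Agent.H8.EssSmall

/-!
Essential subgroups of order `p³` and `p⁴`.
-/

set_option autoImplicit false

namespace Cfsg.Agent.H8

open Subgroup
open scoped commutatorElement

variable {G : Type*} [Group G] [Finite G] {p : ℕ} [hp : Fact p.Prime] {A : Subgroup (MulAut G)}

theorem card_frattini_cases (hG : IsPGroup p G) (h : ¬ Stab p A (pElts p A) ⊤) {n : ℕ}
    (hc : Nat.card G = p ^ n) : ∃ k d, 2 ≤ d ∧ k + d = n ∧ Nat.card (frattini G) = p ^ k ∧
      (frattini G).index = p ^ d := by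
  obtain ⟨d, hd⟩ := hG.index (frattini G)
  obtain ⟨k, hk⟩ := IsPGroup.iff_card.1 (hG.to_subgroup (frattini G))
  refine ⟨k, d, by_contra fun h1 => h (stab_of_index_frattini_dvd hG
    (hd ▸ (pow_dvd_pow p (by omega)).trans (pow_one p).dvd)), ?_, hk, hd⟩
  have := (frattini G).card_mul_index
  rw [hk, hd, hc, ← pow_add] at this
  exact Nat.pow_right_injective hp.out.two_le this

theorem elem_of_frattini (hG : IsPGroup p G) (h : Nat.card (frattini G) = p ^ 0) :
    (∀ a b : G, a * b = b * a) ∧ ∀ a : G, a ^ p = 1 := by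
  have h1 := card_eq_one.1 h
  exact ⟨fun a b => commutatorElement_eq_one_iff_mul_comm.1
    (mem_bot.1 (h1 ▸ comm_mem_frattini hG a b)), fun a => mem_bot.1 (h1 ▸ pow_mem_frattini hG a)⟩

theorem NoFlag.frattini_le_commutator (h : NoFlag A) (hG : IsPGroup p G)
    (hr : (frattini G).index = p ^ 2) (hi : (_root_.commutator G).relIndex (frattini G) ∣ p) :
    frattini G ≤ _root_.commutator G := by
  let f : G →* G ⧸ _root_.commutator G := MonoidHom.mk' (fun g => (g : G ⧸ _root_.commutator G) ^ p)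
    fun a b => quot_commutator_mul_pow p a b
  rcases h f.ker (fun a _ y hy => (QuotientGroup.eq_one_iff (a y ^ p)).2 (by
    simpa using char_inv ⊤ a trivial _ ((QuotientGroup.eq_one_iff (y ^ p)).1 hy))) with h1 | h1
  · have h2 : f.range ≤ (frattini G).map (QuotientGroup.mk' _) := by
      rintro _ ⟨g, rfl⟩; exact ⟨_, pow_mem_frattini hG g, rfl⟩
    have h3 := (index_dvd_of_le h1).trans (index_ker f ▸ card_dvd_of_le h2)
    rw [← relIndex_ker, QuotientGroup.ker_mk', hr] at h3
    have := (Nat.pow_dvd_pow_iff_le_right hp.out.one_lt).1 ((h3.trans hi).trans (pow_one p).symm.dvd)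
    omega
  · exact frattini_le_of_pow_comm (fun x => (QuotientGroup.eq_one_iff (x ^ p)).1 (h1.ge trivial))
      fun x y => commutator_mem_commutator (mem_top x) (mem_top y)

theorem exists_gen_of_card_prime (hG : IsPGroup p G) {N : Subgroup G} [N.Normal]
    (h : Nat.card N = p) : ∃ z, orderOf z = p ∧ z ∈ center G ∧ zpowers z = N := by
  obtain ⟨z, rfl⟩ := (Subgroup.isCyclic_iff_exists_zpowers_eq_top N).1 (isCyclic_of_prime_card h)
  have ord : orderOf z = p := by rw [← Nat.card_zpowers, h]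
  exact ⟨z, ord, mem_center_iff.2 fun g => Fus.mem_centralizer_of_normal_zpowers (S := ⊤)
    (hG.to_subgroup _) trivial (ord ▸ pow_orderOf_eq_one z)
    (fun s _ => Normal.conj_mem ‹_› _ (mem_zpowers z) s) g trivial, rfl⟩

theorem mul_pow_of_odd (hp2 : p ≠ 2) {z : G} (hz : z ^ p = 1) (cen : z ∈ center G)
    (comm : ∀ x y : G, x * y * x⁻¹ * y⁻¹ ∈ zpowers z) (x y : G) : (x * y) ^ p = x ^ p * y ^ p := by
  have h1 := zpowers_le.2 cen (comm y x)
  obtain ⟨l, hl⟩ := hp.out.dvd_choose_self two_ne_zero (lt_of_le_of_ne hp.out.two_le hp2.symm)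
  obtain ⟨k, hk⟩ := comm y x
  have h2 : (y * x * y⁻¹ * x⁻¹) ^ p = 1 := by
    rw [← show z ^ k = _ from hk, ← zpow_natCast, ← zpow_mul, mul_comm k, zpow_mul, zpow_natCast, hz,
      one_zpow]
  rw [Fus.mul_pow_of_comm (by group) (mem_center_iff.1 h1 _).symm (mem_center_iff.1 h1 _).symm, hl,
    pow_mul, h2]
  simp

theorem index_centralizer_dvd {z c : G} (ord : orderOf z = p) (cen : z ∈ center G)
    (h : ∀ g : G, g * c * g⁻¹ * c⁻¹ ∈ zpowers z) : (centralizer {c}).index ∣ p := by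
  let f : G →* G := MonoidHom.mk' (fun g => g * c * g⁻¹ * c⁻¹) fun a b => by
    have h1 := mem_center_iff.1 (zpowers_le.2 cen (h b))
    calc a * b * c * (a * b)⁻¹ * c⁻¹ = a * (b * c * b⁻¹ * c⁻¹) * c * a⁻¹ * c⁻¹ := by group
      _ = _ := by
        rw [h1 a, mul_assoc _ a, mul_assoc _ (a * c), mul_assoc _ (a * c * a⁻¹), ← h1]
  have h1 : centralizer {c} = f.ker := by
    ext g
    rw [mem_centralizer_singleton_iff, ← commutatorElement_eq_one_iff_mul_comm]; rfl
  rw [h1, index_ker, ← ord, ← Nat.card_zpowers]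
  exact card_dvd_of_le (by rintro _ ⟨g, rfl⟩; exact h g)

theorem card_cube_cases (hG : IsPGroup p G) (h : ¬ Stab p A (pElts p A) ⊤)
    (hc : Nat.card G = p ^ 3) : ((∀ a b : G, a * b = b * a) ∧ ∀ a : G, a ^ p = 1) ∨
      (p ≠ 2 ∧ IsExtraspecial p G ∧ ∀ a : G, a ^ p = 1) ∨
      (p = 2 ∧ Nonempty (G ≃* QuaternionGroup 2)) := by
  obtain ⟨k, d, h1, h2, hk, hd⟩ := card_frattini_cases hG h hc
  obtain rfl | ⟨rfl, rfl⟩ : k = 0 ∨ k = 1 ∧ d = 2 := by omega
  · exact Or.inl (elem_of_frattini hG hk)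
  right
  have hnf := noFlag_of_not_stab hG hd.dvd h
  obtain ⟨z, ord, cen, hz⟩ := exists_gen_of_card_prime hG (hk.trans (pow_one p))
  have hzp : z ^ p = 1 := ord ▸ pow_orderOf_eq_one z
  have pow := fun x => hz ▸ pow_mem_frattini hG x
  have comm := fun x y => hz ▸ comm_mem_frattini hG x y
  obtain ⟨g, w, ne⟩ : ∃ g w : G, g * w ≠ w * g := by
    by_contra! h3
    have h4 := hnf.frattini_le_commutator hG hd ((relIndex_dvd_card _ _).trans (hk.trans (pow_one p)).dvd)
    have h5 : _root_.commutator G ≤ ⊥ := commutator_le.2 fun a _ b _ =>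
      commutatorElement_eq_one_iff_mul_comm.2 (h3 a b)
    rw [← hz, zpowers_le] at h4
    exact hp.out.one_lt.ne (by rw [← ord, mem_bot.1 (h5 h4), orderOf_one])
  by_cases hp2 : p = 2
  · subst hp2
    obtain ⟨x, hx⟩ : ∃ x : G, x ^ 2 ≠ 1 := by
      by_contra! h3
      exact ne (mul_comm_of_exponent_two (Nat.dvd_antisymm (Monoid.exponent_dvd_of_forall_pow_eq_one h3)
        (ord ▸ Monoid.order_dvd_exponent z)) g w)
    have hx4 : orderOf x = 2 ^ (1 + 1) := orderOf_eq_prime_pow (by rwa [pow_one]) (by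
      obtain ⟨k, hk⟩ := pow x
      rw [pow_succ, pow_mul, pow_one, ← hk, ← zpow_natCast, ← zpow_mul, mul_comm, zpow_mul,
        zpow_natCast, hzp, one_zpow])
    have hi : (zpowers x).index = 2 := by
      have := (zpowers x).card_mul_index
      rw [Nat.card_zpowers, hx4, hc] at this; omega
    haveI := normal_of_index_eq_two hi
    obtain ⟨y, hy, h3⟩ := index_eq_two_iff_exists_notMem_and.1 hi
    rcases hnf.comm_or_quaternion hG (x := x) (y := y) (fun g => (h3 g).elim
      (fun h4 => ⟨-1, by simpa using h4⟩) fun h4 => ⟨0, by simpa using h4⟩) (fun h4 => by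
        have := orderOf_dvd_natCard (⟨x, h4⟩ : frattini G)
        rw [orderOf_mk, hx4, hk] at this; omega) with h4 | ⟨-, h4, h5, h6, h7⟩
    · exact absurd (h4 g w) ne
    · exact Or.inr ⟨rfl, H2.nonempty_equiv_quaternionGroup two_ne_zero h4 hc h7 h5 h6⟩
  refine Or.inl ⟨hp2, isExtraspecial_of_elt hG ord (le_antisymm (hz ▸ (hnf _ (char_inv A)).resolve_right
    fun h3 => ne (mem_center_iff.1 (h3.ge (mem_top w)) g)) (zpowers_le.2 cen)) pow comm ne, ?_⟩
  let f : G →* G := MonoidHom.mk' (· ^ p) (mul_pow_of_odd hp2 hzp cen comm)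
  refine fun a => ((hnf f.ker fun α _ y hy => ?_).resolve_left fun h3 => ?_).ge (mem_top a)
  · exact show α y ^ p = 1 by rw [← map_pow, show y ^ p = 1 from hy, map_one]
  · have h4 := (index_dvd_of_le h3).trans (index_ker f ▸ card_dvd_of_le (show f.range ≤ frattini G by
      rintro _ ⟨g, rfl⟩; exact pow_mem_frattini hG g))
    rw [hd, hk, Nat.pow_dvd_pow_iff_le_right hp.out.one_lt] at h4
    omega

end Cfsg.Agent.H8
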