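import Mathlib
import Cfsg.Agent.H8.EssSmall2
import Cfsg.Agent.H8.GenES
import Cfsg.Agent.H1.PGen

/-! Essential subgroups of order `p⁴` (S5188). -/

set_option autoImplicit false

namespace Cfsg.Agent.H8

open Subgroup
open scoped commutatorElement

variable {G : Type*} [Group G] [Finite G] {p : ℕ} [hp : Fact p.Prime] {A : Subgroup (MulAut G)}

theorem card_lt_pow (hG : IsPGroup p G) {L M : Subgroup G} (h : L < M) {k : ℕ}
    (hL : p ^ k ≤ Nat.card L) : p ^ (k + 1) ≤ Nat.card M := by
  obtain ⟨n, hn⟩ := IsPGroup.iff_card.1 (hG.to_subgroup M)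
  have h1 : Nat.card L < Nat.card M := lt_of_le_of_ne (card_le_of_le h.le)
    fun e => h.ne (eq_of_le_of_card_ge h.le e.ge)
  rw [hn] at h1 ⊢
  exact Nat.pow_le_pow_right hp.out.pos ((Nat.pow_lt_pow_iff_right hp.out.one_lt).1 (hL.trans_lt h1))

theorem NoFlag.comm_of_card (h : NoFlag A) (hG : IsPGroup p G) (hd : (frattini G).index = p ^ 2)
    (hk : Nat.card (frattini G) = p ^ 2) (a b : G) : a * b = b * a := by
  by_contra ne
  have hZ : frattini G ≤ center G := by
    obtain ⟨z, hz, hz1, hzp, cen⟩ := Fus.exists_central_of_ne_bot (S := ⊤) (P := ⊤) (Q := frattini G)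
      (hG.to_subgroup _) le_rfl le_top le_normalizer_of_normal fun h1 => by
        rw [h1, card_bot] at hk; exact (Nat.one_lt_pow two_ne_zero hp.out.one_lt).ne hk
    have cen' : z ∈ center G := mem_center_iff.2 fun g => cen g trivial
    have ord := orderOf_eq_prime hzp hz1
    have h1 : (zpowers z).relIndex (frattini G) = p := by
      have := card_mul_relIndex' (zpowers_le.2 hz)
      rw [Nat.card_zpowers, ord, hk, sq] at this
      exact Nat.eq_of_mul_eq_mul_left hp.out.pos this
    obtain ⟨c, hc, hcz⟩ := SetLike.not_le_iff_exists.1 fun h2 : frattini G ≤ zpowers z =>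
      hp.out.one_lt.ne' (h1.symm.trans (relIndex_eq_one.2 h2))
    have h2 : centralizer {c} ≤ centralizer (frattini G) := fun g hg y hy =>
      (sup_le (zpowers_le.2 (mem_centralizer_singleton_iff.2 (mem_center_iff.1 cen' g).symm))
        (zpowers_le.2 (mem_centralizer_singleton_iff.2 (mem_centralizer_singleton_iff.1 hg).symm)) :
          _ ≤ centralizer {g}) ((H1.sup_zpowers_eq (zpowers_le.2 hz) h1 hc hcz).ge hy) g rfl |>.symm
    rcases h (centralizer (frattini G)) (char_inv A) with h3 | h3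
    · have h4 := (index_dvd_of_le (h2.trans h3)).trans (index_centralizer_dvd ord cen' fun g => by
        obtain ⟨k, hk⟩ := hG g
        have := cent_of_relIndex_dvd (α := MulAut.conj g) (k := k) (by rw [← map_pow, hk, map_one])
          (L := zpowers z) (fun y hy => by
            rwa [MulAut.conj_apply, mem_center_iff.1 (zpowers_le.2 cen' hy) g, mul_inv_cancel_right])
          (char_inv ⊤ _ trivial) h1.dvd c⁻¹ (inv_mem hc)
        simpa [mul_assoc] using inv_mem this)
      rw [hd] at h4
      have := (Nat.pow_dvd_pow_iff_le_right hp.out.one_lt).1 (h4.trans (pow_one p).symm.dvd)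
      omega
    · exact fun x hx => mem_center_iff.2 fun g => (h3.ge (mem_top g) x hx).symm
  have hnc : ¬ IsCyclic G := fun hc => ne (hc.commGroup.mul_comm a b)
  obtain ⟨x, hx, y, hy⟩ := exists_gen_two hnc
  obtain ⟨-, h2⟩ := index_sup_eq hG hd.dvd hx hy
  have cz : ∀ u v : G, ⁅u, v⁆ ∈ center G := fun u v => hZ (comm_mem_frattini hG u v)
  let f : G → G →* G := fun v => MonoidHom.mk' (fun u => ⁅u, v⁆) fun s t => by
    have := mem_center_iff.1 (cz t v) s
    calc ⁅s * t, v⁆ = s * ⁅t, v⁆ * s⁻¹ * ⁅s, v⁆ := by simp only [commutatorElement_def]; group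
      _ = _ := by rw [this, mul_inv_cancel_right, mem_center_iff.1 (cz s v)]
  have hf : ∀ u v, f v u = ⁅u, v⁆ := fun _ _ => rfl
  have h0 : ∀ u ∈ frattini G, ∀ v : G, ⁅u, v⁆ = 1 := fun u hu v =>
    commutatorElement_eq_one_iff_mul_comm.2 (mem_center_iff.1 (hZ hu) v).symm
  have key : ∀ N : Subgroup G, ∀ v, ⁅x, v⁆ ∈ N → ⁅y, v⁆ ∈ N → ∀ u, ⁅u, v⁆ ∈ N := fun N v h3 h4 u =>
    (show ⊤ ≤ N.comap (f v) from h2 ▸ sup_le (sup_le (fun w hw => by
      rw [mem_comap, hf, h0 w hw]; exact N.one_mem) (zpowers_le.2 h3)) (zpowers_le.2 h4)) (mem_top u)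
  have h3 : _root_.commutator G ≤ zpowers ⁅x, y⁆ := commutator_le.2 fun u _ v _ => by
    have sw : ∀ s t : G, ⁅s, t⁆ ∈ zpowers ⁅x, y⁆ → ⁅t, s⁆ ∈ zpowers ⁅x, y⁆ := fun s t h => by
      rw [← commutatorElement_inv s t]; exact inv_mem h
    exact key _ v (sw _ _ (key _ x (by simp) (sw _ _ (mem_zpowers _)) v))
      (sw _ _ (key _ y (mem_zpowers _) (by simp) v)) u
  have h4 : orderOf ⁅x, y⁆ ∣ p := orderOf_dvd_of_pow_eq_one (by
    rw [← hf, ← map_pow, hf, h0 _ (pow_mem_frattini hG x)])
  have h5 : Nat.card (_root_.commutator G) ∣ p := (card_dvd_of_le h3).trans (by rwa [Nat.card_zpowers])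
  have h6 : Nat.card (_root_.commutator G) = p := ((Nat.dvd_prime hp.out).1 h5).resolve_left fun e =>
    ne (commutatorElement_eq_one_iff_mul_comm.1 (mem_bot.1 (card_eq_one.1 e ▸
      commutator_mem_commutator (mem_top a) (mem_top b))))
  have h7 := card_mul_relIndex' (commutator_le_frattini' hG)
  rw [h6, hk, sq] at h7
  have h8 := card_le_of_le (h.frattini_le_commutator hG hd
    (Nat.eq_of_mul_eq_mul_left hp.out.pos h7).dvd)
  rw [h6, hk] at h8
  exact absurd h8 (not_le.2 (Nat.lt_pow_self hp.out.one_lt |>.trans_le' (by omega) |> fun _ => by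
    nlinarith [hp.out.two_le]))

theorem abelian_p2pp (hG : IsPGroup p G) (hc : ∀ a b : G, a * b = b * a) (hcard : Nat.card G = p ^ 4)
    {z : G} (ord : orderOf z = p) (hz : zpowers z = frattini G) :
    Nonempty (G ≃* Multiplicative (ZMod (p ^ 2) × ZMod p × ZMod p)) := by
  letI : CommGroup G := { (inferInstance : Group G) with mul_comm := hc }
  have hzp : z ^ p = 1 := ord ▸ pow_orderOf_eq_one z
  have z1 : z ≠ 1 := fun e => hp.out.one_lt.ne (by rw [← ord, e, orderOf_one])
  obtain ⟨x, hx⟩ : ∃ x : G, x ^ p ≠ 1 := by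
    by_contra! h
    exact z1 (mem_bot.1 (frattini_le_of_pow_comm (p := p) (fun x => mem_bot.2 (h x))
      (fun x y => by simp [mul_comm x y]) (hz ▸ mem_zpowers z)))
  have pw : ∀ g : G, g ^ p ∈ zpowers z := fun g => hz ▸ pow_mem_frattini hG g
  have pp : ∀ g : G, g ^ p ^ 2 = 1 := fun g => by
    obtain ⟨k, hk⟩ := pw g
    rw [sq, pow_mul, ← hk, ← zpow_natCast, ← zpow_mul, mul_comm, zpow_mul, zpow_natCast, hzp, one_zpow]
  have ox : orderOf x = p ^ (1 + 1) := orderOf_eq_prime_pow (by rwa [pow_one]) (pp x)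
  have ex : ∀ X : Subgroup G, x ∈ X → Nat.card X < p ^ 4 → ∃ a, a ^ p = 1 ∧ a ∉ X := fun X hX h => by
    by_contra! h1
    refine h.ne (hcard ▸ card_top (G := G) ▸ congrArg (fun Y : Subgroup G => Nat.card Y)
      (eq_top_iff.2 fun g _ => ?_))
    obtain ⟨k, hk⟩ := mem_zpowers_of_prime hzp (pw x) hx (pw g)
    have := X.mul_mem (h1 (g * (x ^ k)⁻¹) (by
      rw [mul_pow, inv_pow, ← zpow_natCast (x ^ k), ← zpow_mul, mul_comm k, zpow_mul, zpow_natCast,
        show (x ^ p) ^ k = g ^ p from hk, mul_inv_cancel])) (X.zpow_mem hX k)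
    simpa using this
  have p1 := hp.out.one_lt
  obtain ⟨a, ap, ha⟩ := ex (zpowers x) (mem_zpowers x) (by
    rw [Nat.card_zpowers, ox]; exact Nat.pow_lt_pow_right p1 (by omega))
  have l1 : zpowers x < zpowers a ⊔ zpowers x :=
    lt_of_le_of_ne le_sup_right fun e => ha (e ▸ mem_sup_left (mem_zpowers a))
  obtain ⟨b, bp, hb⟩ := ex (zpowers a ⊔ zpowers x) (l1.le (mem_zpowers x)) (by
    have h1 := relIndex_dvd_of_le_zpowers_sup (N := zpowers x) (x := a) (n := p)
      (ap ▸ one_mem _) le_rfl
    rw [← card_mul_relIndex' l1.le, Nat.card_zpowers, ox]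
    calc _ ≤ p ^ (1 + 1) * p := Nat.mul_le_mul_left _ (Nat.le_of_dvd hp.out.pos h1)
      _ < _ := by rw [← pow_succ]; exact Nat.pow_lt_pow_right p1 (by omega))
  let f : ∀ (n : ℕ) (g : G), g ^ n = 1 → (ZMod n →+ Additive G) := fun n g h =>
    ZMod.lift n ⟨zmultiplesHom (Additive G) (Additive.ofMul g), by
      rw [zmultiplesHom_apply, natCast_zsmul, ← ofMul_pow, h, ofMul_one]⟩
  have hf : ∀ n g h, f n g h 1 = Additive.ofMul g := fun n g h => by
    rw [← Int.cast_one, ZMod.lift_coe]; simp
  let F := AddMonoidHom.toMultiplicativeLeft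
    ((f _ x (pp x)).coprod ((f _ a ap).coprod (f _ b bp)))
  have m1 : x ∈ F.range := ⟨Multiplicative.ofAdd (1, 0, 0), by simp [F, hf]⟩
  have m2 : a ∈ F.range := ⟨Multiplicative.ofAdd (0, 1, 0), by simp [F, hf]⟩
  have m3 : b ∈ F.range := ⟨Multiplicative.ofAdd (0, 0, 1), by simp [F, hf]⟩
  have l2 : zpowers a ⊔ zpowers x < F.range := lt_of_le_of_ne
    (sup_le (zpowers_le.2 m2) (zpowers_le.2 m1)) fun e => hb (e ▸ m3)
  have c4 := card_lt_pow hG l2 (card_lt_pow hG l1 (k := 2) (by rw [Nat.card_zpowers, ox]))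
  haveI : NeZero (p ^ 2) := ⟨pow_ne_zero _ hp.out.ne_zero⟩
  refine ⟨(MulEquiv.ofBijective F ((Nat.bijective_iff_surjective_and_card F).2
    ⟨MonoidHom.range_eq_top.1 (eq_top_of_card_eq _ (le_antisymm (card_le_card_group _)
      (hcard ▸ c4))), ?_⟩)).symm⟩
  rw [hcard, Nat.card_congr Multiplicative.toAdd, Nat.card_prod, Nat.card_prod, Nat.card_zmod,
    Nat.card_zmod]; ring

theorem card_four_cases (hG : IsPGroup p G) (h : EssAut p A) (hc : Nat.card G = p ^ 4) :
    ((∀ a b : G, a * b = b * a) ∧ ∀ a : G, a ^ p = 1) ∨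
      Nonempty (G ≃* Multiplicative (ZMod (p ^ 2) × ZMod p × ZMod p)) ∨
      ((p = 2 ∨ p = 3) ∧ Nonempty (G ≃* Multiplicative (ZMod (p ^ 2) × ZMod (p ^ 2)))) ∨
      (Odd p ∧ ∃ (E : Type) (_ : Group E) (_ : Finite E), IsExtraspecial p E ∧ Nat.card E = p ^ 3 ∧
        (∀ x : E, x ^ p = 1) ∧ Nonempty (G ≃* E × Multiplicative (ZMod p))) ∨
      (p = 2 ∧ Nonempty (G ≃* QuaternionGroup 2 × Multiplicative (ZMod 2))) ∨
      ((¬ ∀ a b : G, a * b = b * a) ∧ (∀ x : G, x ^ (p ^ 2) = 1) ∧ IsCyclic (center G) ∧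
        Nat.card (center G) = p ^ 2) := by
  have p1 := hp.out.one_lt
  obtain ⟨k, d, h1, h2, hk, hd⟩ := card_frattini_cases hG h.not_stab hc
  obtain rfl | ⟨rfl, rfl⟩ | ⟨rfl, rfl⟩ : k = 0 ∨ k = 2 ∧ d = 2 ∨ k = 1 ∧ d = 3 := by omega
  · exact Or.inl (elem_of_frattini hG hk)
  · obtain ⟨n, n0, hn, ⟨e⟩⟩ := h.homocyclic hG
      ((noFlag_of_not_stab hG hd.dvd h.not_stab).comm_of_card hG hd hk) hd.dvd
    have := Nat.card_congr e.toEquiv
    rw [hc, Nat.card_prod, Nat.card_congr Multiplicative.toAdd, Nat.card_zmod, ← pow_add] at this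
    obtain rfl : n = 2 := by have := Nat.pow_right_injective hp.out.two_le this; omega
    refine Or.inr (Or.inr (Or.inl ⟨?_, ⟨e.trans (MulEquiv.prodMultiplicative _ _).symm⟩⟩))
    have := hp.out.two_le
    omega
  right
  obtain ⟨z, ord, cen, hz⟩ := exists_gen_of_card_prime hG (hk.trans (pow_one p))
  by_cases hab : ∀ a b : G, a * b = b * a
  · exact Or.inl (abelian_p2pp hG hab hc ord hz)
  right; right
  have hzp : z ^ p = 1 := ord ▸ pow_orderOf_eq_one z
  have pow := fun x => hz ▸ pow_mem_frattini hG x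
  have comm := fun x y => hz ▸ comm_mem_frattini hG x y
  have pp : ∀ g : G, g ^ p ^ 2 = 1 := fun g => by
    obtain ⟨k, hk⟩ := pow g
    rw [sq, pow_mul, ← hk, ← zpow_natCast, ← zpow_mul, mul_comm, zpow_mul, zpow_natCast, hzp, one_zpow]
  have hab' := hab
  push Not at hab'
  obtain ⟨g, w, ne⟩ := hab'
  have ci : ∀ c ∉ center G, (centralizer {c}).index = p := fun c h3 =>
    ((Nat.dvd_prime hp.out).1 (index_centralizer_dvd ord cen fun g => comm g c)).resolve_left
      fun e => h3 (mem_center_iff.2 fun g => mem_centralizer_singleton_iff.1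
        ((index_eq_one.1 e).ge (mem_top g)))
  have gZ : g ∉ center G := fun e => ne (mem_center_iff.1 e w).symm
  have wZ : w ∉ center G := fun e => ne (mem_center_iff.1 e g)
  have wg : w ∉ centralizer {g} := fun e => ne (mem_centralizer_singleton_iff.1 e).symm
  have gw : g ∉ centralizer {w} := fun e => ne (mem_centralizer_singleton_iff.1 e)
  let D : Subgroup G := centralizer {g} ⊓ centralizer {w}
  have zD : center G ≤ D := le_inf (center_le_centralizer _) (center_le_centralizer _)
  have cc : ∀ c ∉ center G, Nat.card (centralizer {c} : Subgroup G) = p ^ 3 := fun c h3 => by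
    have := (centralizer {c} : Subgroup G).card_mul_index
    rw [ci c h3, hc, pow_succ] at this
    exact Nat.eq_of_mul_eq_mul_right hp.out.pos this
  have lD : D < centralizer {g} := lt_of_le_of_ne inf_le_left fun e =>
    gw (e.ge (mem_centralizer_singleton_iff.2 rfl)).2
  have iD : D.relIndex (centralizer {g}) = p := ((Nat.dvd_prime hp.out).1 (by
    rw [inf_relIndex_left, ← ci w wZ]
    haveI : (centralizer {w} : Subgroup G).Normal := ⟨fun x hx y => by
      simpa using mul_mem (center_le_centralizer _ (zpowers_le.2 cen (comm y x))) hx⟩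
    exact relIndex_dvd_index_of_normal _ _)).resolve_left fun e => lD.2 (relIndex_eq_one.1 e)
  have cD : Nat.card D = p ^ 2 := by
    have := card_mul_relIndex' lD.le
    rw [iD, cc g gZ, pow_succ] at this
    exact Nat.eq_of_mul_eq_mul_right hp.out.pos this
  have s1 := H1.sup_zpowers_eq lD.le iD (mem_centralizer_singleton_iff.2 rfl) fun e => gw e.2
  have s2 := H1.sup_zpowers_eq le_top ((relIndex_top_right _).trans (ci g gZ)) (mem_top w) wg
  have Dz : D ≤ center G := fun c hcD => mem_center_iff.2 fun x => by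
    haveI : (zpowers z).Normal := hz ▸ inferInstance
    haveI : IsCyclic (D ⧸ (zpowers z).subgroupOf D) := isCyclic_of_prime_card (p := p) (by
      have := card_mul_relIndex' (L := zpowers z) (M := D) ((zpowers_le.2 cen).trans zD)
      rw [Nat.card_zpowers, ord, cD, sq] at this
      exact Nat.eq_of_mul_eq_mul_left hp.out.pos this)
    have cD : D ≤ centralizer {c} := fun y hy => mem_centralizer_singleton_iff.2 (congrArg Subtype.val
      (((QuotientGroup.mk' ((zpowers z).subgroupOf D)).isMulCommutative_of_isCyclic_of_ker_le_center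
        (fun u hu => mem_center_iff.2 fun v => Subtype.ext (mem_center_iff.1
          (zpowers_le.2 cen (by rwa [QuotientGroup.ker_mk'] at hu)) v))).1.1 ⟨y, hy⟩ ⟨c, hcD⟩))
    exact mem_centralizer_singleton_iff.1 ((show ⊤ ≤ centralizer {c} from s2 ▸ sup_le (s1 ▸ sup_le cD
      (zpowers_le.2 (mem_centralizer_singleton_iff.2 (mem_centralizer_singleton_iff.1 hcD.1).symm)))
      (zpowers_le.2 (mem_centralizer_singleton_iff.2 (mem_centralizer_singleton_iff.1 hcD.2).symm)))
      (mem_top x))
  have eD : D = center G := le_antisymm Dz zD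
  rw [eD] at cD s1
  by_cases cp : ∀ c ∈ center G, c ^ p = 1
  swap
  · push Not at cp
    obtain ⟨c, h3, h4⟩ := cp
    refine Or.inr (Or.inr ⟨hab, pp, isCyclic_of_orderOf_eq_card (⟨c, h3⟩ : center G) ?_, cD⟩)
    rw [orderOf_mk, cD]
    exact orderOf_eq_prime_pow (n := 1) (by rwa [pow_one]) (pp c)
  have ge : GenES p z g w := ⟨ord, cen, pow, comm, ne, cp, fun x => by
    haveI : (centralizer {g} : Subgroup G).Normal := ⟨fun x hx y => by
      simpa using mul_mem (center_le_centralizer _ (zpowers_le.2 cen (comm y x))) hx⟩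
    obtain ⟨y, hy, _, ⟨j, rfl⟩, rfl⟩ := mem_sup_of_normal_left.1 (s2.ge (mem_top x))
    obtain ⟨c, h3, _, ⟨i, rfl⟩, rfl⟩ := mem_sup_of_normal_left.1 (s1.ge hy)
    exact ⟨i, j, c, h3, by rw [mem_center_iff.1 h3, mul_assoc]⟩⟩
  have st : ∀ M : Subgroup G, M.Characteristic → center G < M → M = ⊤ := fun M _ h3 => by
    by_contra h4
    have h5 := card_lt_pow hG h3 cD.ge
    have h6 : Nat.card M ≤ p ^ 3 := by
      obtain ⟨n, hn⟩ := IsPGroup.iff_card.1 (hG.to_subgroup M)
      have := card_lt_pow hG (lt_top_iff_ne_top.2 h4) hn.ge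
      rw [card_top, hc, Nat.pow_le_pow_iff_right p1] at this
      exact hn ▸ Nat.pow_le_pow_right hp.out.pos (by omega)
    refine h.not_stab ((((Stab.pbase le_rfl).pstep_card hG (hz ▸ zpowers_le.2 cen) ?_).pstep_card
      hG h3.le ?_).pstep_card hG le_top ?_)
    · rw [cD, hk]; exact le_of_eq (by ring)
    · rw [cD]; exact h6.trans (le_of_eq (by ring))
    · rw [card_top, hc, pow_succ']; exact Nat.mul_le_mul_left _ h5
  obtain ⟨G', _, _, ⟨e⟩⟩ : ∃ (K : Type) (_ : Group K) (_ : Finite K), Nonempty (G ≃* K) :=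
    have f : Shrink.{0} G ≃* G := Shrink.mulEquiv
    ⟨Shrink.{0} G, inferInstance, Finite.of_equiv _ f.symm.toEquiv, ⟨f.symm⟩⟩
  obtain ⟨E, B, -, hg, hw, hzE, -, hE, cE, ⟨e'⟩⟩ := (ge.map e).split (hG.of_equiv e)
  have cB : Nat.card B = p := by
    have := Nat.card_congr (e.trans e').toEquiv
    rw [hc, Nat.card_prod, cE, pow_succ] at this
    exact (Nat.eq_of_mul_eq_mul_left (pow_pos hp.out.pos 3) this).symm
  let eB : B ≃* Multiplicative (ZMod p) := mulEquivOfPrimeCardEq cB (by
    rw [Nat.card_congr Multiplicative.toAdd, Nat.card_zmod])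
  by_cases hp2 : p = 2
  · subst hp2
    have mz : ∀ x ∈ zpowers z, x = 1 ∨ x = z := fun x hx => by
      classical
      rw [mem_zpowers_iff_mem_range_orderOf, ord] at hx
      obtain ⟨i, hi, rfl⟩ := Finset.mem_image.1 hx
      rw [Finset.mem_range] at hi
      interval_cases i <;> simp
    have sq : ∀ x ∉ center G, x * x = z := by
      have two : ∀ x : G, x * x = 1 ∨ x * x = z := fun x => mz _ (pow_two x ▸ pow x)
      have z1 : z ≠ 1 := fun e => by rw [e, orderOf_one] at ord; omega
      obtain ⟨x₀, hx₀⟩ : ∃ x : G, x * x ≠ 1 := by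
        by_contra! h3
        exact ne (mul_comm_of_exponent_two (Nat.dvd_antisymm (Monoid.exponent_dvd_of_forall_pow_eq_one
          fun x => (pow_two x).trans (h3 x)) (ord ▸ Monoid.order_dvd_exponent z)) g w)
      have x₀Z : x₀ ∉ center G := fun e => hx₀ ((pow_two _).symm.trans (cp _ e))
      intro x hx
      by_contra h3
      replace h3 := (two x).resolve_right h3
      -- every element of order four commutes with `x₀`
      have h4 : ∀ y : G, y * y ≠ 1 → y ∈ centralizer {x₀} := fun y hy => by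
        by_contra h5
        rw [mem_centralizer_singleton_iff] at h5
        have cm : ∀ u v : G, u * v ≠ v * u → u * v = z * (v * u) := fun u v h6 => by
          rcases mz _ (comm u v) with h7 | h7
          · exact absurd (commutatorElement_eq_one_iff_mul_comm.1 h7) h6
          · rw [← h7]; group
        have zz : z * z = 1 := (pow_two z).symm.trans hzp
        have zc := fun u => mem_center_iff.1 cen u
        have sy := (two y).resolve_left hy
        have s0 := (two x₀).resolve_left hx₀
        have sp : y * x₀ * (y * x₀) = z := by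
          calc _ = y * (x₀ * y) * x₀ := by group
            _ = y * (z * (y * x₀)) * x₀ := by rw [cm x₀ y (Ne.symm h5)]
            _ = z * (y * y) * (x₀ * x₀) := by rw [← mul_assoc y, zc y]; group
            _ = z := by rw [sy, s0, zz, one_mul]
        -- `G / Z` has order four, so `x` lies in one of the three cosets
        have cos : ∀ u : G, u * u = z → u⁻¹ * x ∉ center G := fun u hu h6 => z1 (by
          have h7 := cp _ h6
          have h8 := mem_center_iff.1 h6 u
          rw [← hu, ← h3]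
          calc u * u = u * u * (u⁻¹ * x) ^ 2 := by rw [h7, mul_one]
            _ = u * (u * (u⁻¹ * x)) * (u⁻¹ * x) := by rw [pow_two]; group
            _ = _ := by rw [h8]; group)
        have iZ : Nat.card (G ⧸ center G) = 4 := by
          have := (center G).card_mul_index
          rw [cD, hc] at this
          change (center G).index = 4
          omega
        have q1 : ∀ u ∉ center G, (u : G ⧸ center G) ≠ 1 := fun u hu =>
          mt (QuotientGroup.eq_one_iff u).1 hu
        have yZ : y ∉ center G := fun e => h5 (mem_center_iff.1 e x₀).symm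
        have q2 : (y : G ⧸ center G) ≠ x₀ := fun e => h5 (by
          have := mem_center_iff.1 (QuotientGroup.eq.1 e) y
          calc y * x₀ = y * (y * (y⁻¹ * x₀)) := by group
            _ = _ := by rw [this]; group)
        classical
        haveI := Fintype.ofFinite (G ⧸ center G)
        have := Finset.card_le_univ ({1, (y : G ⧸ center G), (x₀ : G ⧸ center G),
          ((y * x₀ : G) : G ⧸ center G), (x : G ⧸ center G)} : Finset _)
        rw [← Nat.card_eq_fintype_card, iZ, Finset.card_insert_of_notMem, Finset.card_insert_of_notMem,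
          Finset.card_insert_of_notMem, Finset.card_pair] at this
        · omega
        · exact mt QuotientGroup.eq.1 (cos _ sp)
        · simp only [Finset.mem_insert, Finset.mem_singleton, not_or, QuotientGroup.mk_mul]
          exact ⟨by simpa using q1 y yZ, mt QuotientGroup.eq.1 (cos _ s0)⟩
        · simp only [Finset.mem_insert, Finset.mem_singleton, not_or, QuotientGroup.mk_mul]
          exact ⟨q2, by simpa using q1 _ x₀Z, mt QuotientGroup.eq.1 (cos _ sy)⟩
        · simp only [Finset.mem_insert, Finset.mem_singleton, not_or]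
          exact ⟨(q1 _ yZ).symm, (q1 _ x₀Z).symm, (q1 _ fun e => z1 (by
            rw [← sp, ← pow_two, cp _ e])).symm, (q1 _ hx).symm⟩
      haveI : (closure {y : G | y * y ≠ 1}).Characteristic := characteristic_iff_map_le.2 fun φ => by
        rw [MonoidHom.map_closure]
        refine closure_mono ?_
        rintro _ ⟨y, hy, rfl⟩ h5
        exact hy (φ.injective (by rw [map_mul, map_one]; exact h5))
      have h5 := st (center G ⊔ closure {y : G | y * y ≠ 1}) inferInstance (lt_of_le_of_ne le_sup_left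
        fun e => x₀Z (e ▸ mem_sup_right (subset_closure hx₀)))
      exact x₀Z (mem_center_iff.2 fun u => mem_centralizer_singleton_iff.1
        ((sup_le (center_le_centralizer _) ((closure_le _).2 h4)) (h5.ge (mem_top u))))
    have z1 : z ≠ 1 := fun e => by rw [e, orderOf_one] at ord; omega
    obtain ⟨q⟩ := H2.nonempty_equiv_quaternionGroup (G := E) two_ne_zero (a := ⟨e g, hg⟩) (t := ⟨e w, hw⟩)
      (by rw [orderOf_mk, e.orderOf_eq]
          exact orderOf_eq_prime_pow (n := 1) (by rwa [pow_one, pow_two, sq g gZ]) (pp g)) cE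
      (fun ⟨k, hk⟩ => ne (e.injective (by
        rw [map_mul, map_mul, ← show e g ^ k = e w from congrArg Subtype.val hk]; group)))
      (Subtype.ext (by
        change e w * e g * (e w)⁻¹ = (e g)⁻¹
        rw [← map_inv, ← map_inv, ← map_mul, ← map_mul, e.apply_eq_iff_eq]
        have gwZ : w * g ∉ center G := fun h3 => ne (by
          have := mem_center_iff.1 h3 g
          rw [← mul_assoc] at this; exact mul_right_cancel this)
        have := (sq _ gwZ).trans (sq w wZ).symm
        rw [mul_assoc, mul_right_inj] at this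
        calc w * g * w⁻¹ = g⁻¹ * (g * (w * g)) * w⁻¹ := by group
          _ = _ := by rw [this]; group))
      (Subtype.ext (by
        change e w * e w = e g ^ 2
        rw [← map_mul, sq w wZ, ← sq g gZ, map_mul, pow_two]))
    exact Or.inr (Or.inl ⟨rfl, ⟨(e.trans e').trans (q.prodCongr eB)⟩⟩)
  let f : G →* G := MonoidHom.mk' (· ^ p) (mul_pow_of_odd hp2 hzp cen comm)
  haveI : f.ker.Characteristic := characteristic_iff_map_le.2 fun φ => by
    rintro _ ⟨y, hy, rfl⟩
    exact show φ y ^ p = 1 by rw [← map_pow, show y ^ p = 1 from hy, map_one]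
  have h3 := st f.ker inferInstance (lt_of_le_of_ne cp fun e => by
    have h4 := (index_ker f ▸ card_dvd_of_le (show f.range ≤ zpowers z by
      rintro _ ⟨g, rfl⟩; exact pow g))
    have h5 := (center G).card_mul_index
    rw [← e, Nat.card_zpowers, ord] at h4
    have := Nat.le_of_dvd hp.out.pos h4
    rw [cD, hc] at h5
    have h6 : p ^ 4 ≤ p ^ 3 := by rw [← h5, pow_succ p 2]; exact Nat.mul_le_mul_left _ this
    rw [Nat.pow_le_pow_iff_right p1] at h6; omega)
  refine Or.inl ⟨hp.out.odd_of_ne_two hp2, E, inferInstance, inferInstance, hE, cE, fun x => ?_,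
    ⟨(e.trans e').trans ((MulEquiv.refl E).prodCongr eB)⟩⟩
  obtain ⟨y, hy⟩ := e.surjective x
  exact Subtype.ext (by
    rw [coe_pow, ← hy, ← map_pow, show y ^ p = 1 from h3.ge (mem_top y), map_one]; rfl)

end Cfsg.Agent.H8
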