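import Mathlib
import Cfsg.Agent.H8.SSAb
import Cfsg.Agent.H6.PSL3
import Cfsg.Agent.H6.MaxClass
import Cfsg.Agent.H3.PSL2Fus
import Cfsg.Agent.L.Transport
import Cfsg.Agent.L.GroupFusion

/-!
Non-inner fusion systems on dihedral, quaternion and semidihedral groups.
-/

set_option autoImplicit false

namespace Cfsg.Agent.H8

open Subgroup MatrixGroups

/-- `T` is a Sylow `2`-subgroup of a finite group with extra fusion of elements. -/
def NI (T : Type*) [Group T] : Prop :=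
  ∃ (G : Type) (_ : Group G) (_ : Finite G) (P : Sylow 2 G) (e : T ≃* (P : Subgroup G)) (x y : T),
    IsConj (e x : G) (e y) ∧ ¬ IsConj x y

theorem NI.of_equiv {T T' : Type*} [Group T] [Group T'] (h : NI T) (f : T ≃* T') : NI T' := by
  obtain ⟨G, _, _, P, e, x, y, h1, h2⟩ := h
  exact ⟨G, _, ‹_›, P, f.symm.trans e, f x, f y, by simpa using h1,
    fun h => h2 (by simpa using f.symm.toMonoidHom.map_isConj h)⟩

theorem ni_sylow {G : Type} [Group G] [Finite G] (P : Sylow 2 G) {a x y : (P : Subgroup G)}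
    [(zpowers a).Normal]
    (hx : x ∈ zpowers a) (hy : y ∉ zpowers a) (h : IsConj (x : G) y) : NI (P : Subgroup G) :=
  ⟨G, _, ‹_›, P, MulEquiv.refl _, x, y, h, fun h1 => by
    obtain ⟨c, rfl⟩ := isConj_iff.1 h1
    exact hy (Normal.conj_mem ‹_› x hx c)⟩

open Cfsg.Fus Cfsg.FusionSystem in
theorem NI.exists_system {Ω : Type*} [Group Ω] {S : Subgroup Ω} (h : NI S) :
    ∃ F : FusionSystem S, F.IsSaturated 2 ∧ F ≠ innerFusionSystem S := by
  obtain ⟨G, _, _, P, e, x, y, h1, h2⟩ := h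
  obtain ⟨θ', hθ⟩ := L.exists_pIso_of_injective (S.subtype.comp e.symm.toMonoidHom)
    (S.subtype_injective.comp e.symm.injective)
  obtain ⟨F, t⟩ := hθ.exists_transp le_rfl (groupFusionSystem (P : Subgroup G)) (S' := S) (by
    rw [hθ.img_self, MonoidHom.range_comp, MonoidHom.range_eq_top.2 e.symm.surjective,
      ← MonoidHom.range_eq_map, range_subtype])
  refine ⟨F, t.isSaturated (L.isSaturated_groupFusionSystem P), fun hF => h2 ?_⟩
  obtain ⟨g, hg⟩ := isConj_iff.1 h1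
  have h3 := t.isConjElt (x := e x) (y := e y) (isConjElt_iff.2 ⟨zpowers (e x : G), cj g,
    isMap_group_cj (zpowers_le.2 (e x).2) (by
      rintro _ ⟨k, rfl⟩
      rw [← conj_zpow, hg]; exact zpow_mem (e y).2 k), mem_zpowers _, hg⟩)
  obtain ⟨R, f, hf, h4, h5⟩ := isConjElt_iff.1 h3
  obtain ⟨c, hc, h6⟩ := eq_inner_iff.1 hF R f hf
  exact isConj_iff.2 ⟨⟨c, hc⟩, Subtype.ext (by simpa using (h6 _ h4).symm.trans h5)⟩

theorem ni_quat {H : Type} [Group H] [Finite H] (P : Sylow 2 H) {a t : (P : Subgroup H)} {e : ℕ}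
    (ha : orderOf a = 2 ^ (e + 2)) (hP : Nat.card P = 2 ^ (e + 3)) (ht : t ∉ zpowers a)
    (hta : t * a * t⁻¹ = a⁻¹) (ht2 : t * t = a ^ 2 ^ (e + 1)) (hz : (t * t).1 ∈ center H)
    (hc : IsConj (a ^ 2 ^ e).1 t) :
    NI (QuaternionGroup (2 ^ (e + 1))) ∧ NI (DihedralGroup (2 ^ (e + 1))) := by
  have hi : (zpowers a).index = 2 := by
    have h1 := (zpowers a).card_mul_index
    rw [Nat.card_zpowers, ha, hP, pow_succ 2 (e + 2)] at h1
    exact Nat.eq_of_mul_eq_mul_left (by positivity) h1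
  haveI := normal_of_index_eq_two hi
  obtain ⟨f⟩ := H2.nonempty_equiv_quaternionGroup (n := 2 ^ (e + 1)) (by positivity)
    (by rw [ha]; ring) (by rw [hP]; ring) ht hta ht2
  refine ⟨(ni_sylow P (pow_mem (mem_zpowers a) _) ht hc).of_equiv f, ?_⟩
  haveI := H2.normal_of_le_center (zpowers_le.2 hz)
  let π := QuotientGroup.mk' (zpowers (t * t).1)
  let P' := P.mapSurjective (QuotientGroup.mk'_surjective (zpowers (t * t).1))
  let ρ : (P : Subgroup H) →* (P' : Subgroup (H ⧸ zpowers (t * t).1)) := π.subgroupMap P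
  have hρ : Function.Surjective ρ := π.subgroupMap_surjective P
  have hk : ρ.ker = zpowers (a ^ 2 ^ (e + 1)) := by
    ext x
    rw [MonoidHom.mem_ker, Subtype.ext_iff, ← ht2, mem_zpowers_coe]
    exact QuotientGroup.eq_one_iff _
  have ho : orderOf (a ^ 2 ^ (e + 1)) = 2 := by
    rw [orderOf_pow, ha, Nat.gcd_eq_right (pow_dvd_pow 2 (by omega)), pow_succ 2 (e + 1)]
    exact Nat.mul_div_cancel_left 2 (by positivity)
  have ht' : ρ t ∉ zpowers (ρ a) := fun ⟨k, hk'⟩ => ht (by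
    have h1 : (a ^ k)⁻¹ * t ∈ ρ.ker := by
      rw [MonoidHom.mem_ker, map_mul, map_inv, map_zpow, show ρ a ^ k = _ from hk', inv_mul_cancel]
    exact (mul_mem_cancel_left (inv_mem (zpow_mem (mem_zpowers a) k))).1
      (zpowers_le.2 (pow_mem (mem_zpowers a) _) (hk ▸ h1)))
  haveI : (zpowers (ρ a)).Normal := MonoidHom.map_zpowers ρ a ▸ Normal.map ‹_› ρ hρ
  have h1 : ρ a ^ 2 ^ e ≠ 1 := fun h => by
    rw [← map_pow, ← MonoidHom.mem_ker, hk] at h
    have h1 := orderOf_dvd_iff_pow_eq_one.1 (ho ▸ orderOf_dvd_of_mem_zpowers h)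
    rw [← pow_mul, ← pow_succ, ← orderOf_dvd_iff_pow_eq_one, ha,
      Nat.pow_dvd_pow_iff_le_right one_lt_two] at h1
    omega
  have h2 := ρ.ker.card_mul_index
  rw [index_ker, MonoidHom.range_eq_top.2 hρ, card_top, hk, Nat.card_zpowers, ho, hP,
    pow_succ' 2 (e + 2)] at h2
  obtain ⟨f'⟩ := H2.nonempty_equiv_dihedralGroup (n := 2 ^ (e + 1)) (a := ρ a) (t := ρ t)
    (orderOf_eq_prime_pow h1 (by rw [← map_pow, ← MonoidHom.mem_ker, hk]; exact mem_zpowers _))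
    (by rw [Nat.eq_of_mul_eq_mul_left two_pos h2]; ring) ht'
    (by rw [← map_inv, ← map_mul, ← map_mul, hta, map_inv])
    (by rw [← map_mul, ← MonoidHom.mem_ker, hk, ht2]; exact mem_zpowers _)
  exact (ni_sylow P' (x := ρ (a ^ 2 ^ e)) (by rw [map_pow]; exact pow_mem (mem_zpowers _) _) ht'
    (π.map_isConj hc)).of_equiv f'

section GL2

variable {F : Type} [Field F] [Fintype F]

theorem gl2_order_four (h : Fintype.card F % 4 = 3) {g : GL (Fin 2) F} (hg : orderOf g = 4) :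
    ∃ x : SL(2, F), Matrix.SpecialLinearGroup.toGL x = g ∧ x * x = -1 := by
  have hsq : ∀ c : F, c * c ≠ -1 := fun c hc => FiniteField.isSquare_neg_one_iff.1 ⟨c, hc.symm⟩ h
  have h2 : (2 : F) ≠ 0 := fun h2 => hsq 1 (by linear_combination h2)
  obtain ⟨h3, h4⟩ := H6.orderOf_eq_four_iff.1 hg
  obtain ⟨a, b, c, d, hd, rfl⟩ := H6.exists_gl2 g
  have h5 : (a * d - b * c) * (a * d - b * c) = 1 := by
    have := congrArg (fun x => ((Matrix.GeneralLinearGroup.det x : Fˣ) : F)) h4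
    simp only [map_mul, Units.val_mul, H6.det_gl2, map_one, Units.val_one] at this
    exact (mul_self_eq_one_iff.1 this).resolve_right (hsq _)
  have h6 := (H3.sl2_sq_eq_one h2 (H3.sl2 (a * a + b * c) (a * b + b * d) (c * a + d * c)
    (c * b + d * d) (by linear_combination h5)) (by
      rw [H6.gl2_mul, H6.gl2_mul, H6.gl2_one, H6.gl2_eq_iff] at h4
      rw [sq, H3.sl2_mul, H3.sl2_one, H3.sl2_eq_iff]; exact h4)).resolve_left (by
      rw [H6.gl2_mul, H6.gl2_one, Ne, H6.gl2_eq_iff] at h3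
      rwa [H3.sl2_one, H3.sl2_eq_iff])
  rw [H3.sl2_neg_one, H3.sl2_eq_iff] at h6
  have h7 : a + d = 0 := by
    by_contra h7
    have hb : b = 0 := (mul_eq_zero.1 (show b * (a + d) = 0 by linear_combination h6.2.1)).resolve_right h7
    exact hsq a (by rw [← h6.1, hb]; ring)
  exact ⟨H3.sl2 a b c d (by linear_combination a * h7 - h6.1), Units.ext rfl, by
    rw [H3.sl2_mul, H3.sl2_neg_one, H3.sl2_eq_iff]; exact h6⟩

theorem ni_of_field {t n : ℕ} (h : Fintype.card F = t + 1) (ht : H6.TwoPart (t + 2) (n + 2)) :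
    (∃ P : Sylow 2 (GL (Fin 2) F), NI (P : Subgroup (GL (Fin 2) F)) ∧ IsQuasiDihedral P ∧ Nat.card P = 2 ^ (n + 4)) ∧
      NI (QuaternionGroup (2 ^ (n + 1))) ∧ NI (DihedralGroup (2 ^ (n + 1))) := by
  have h4 : Fintype.card F % 4 = 3 := by
    obtain ⟨c, hc⟩ := (pow_dvd_pow 2 (show 2 ≤ n + 2 by omega)).trans ht.dvd
    omega
  have hodd : Fintype.card F % 2 = 1 := by omega
  have h2 : (2 : F) ≠ 0 := fun h2 =>
    FiniteField.isSquare_neg_one_iff.1 ⟨1, by linear_combination -h2⟩ h4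
  have hJ : ∀ x y : SL(2, F), x * x = -1 → y * y = -1 → IsConj x y := fun x y hx hy =>
    (H3.sl2_isConj_J hodd h2 x hx).symm.trans (H3.sl2_isConj_J hodd h2 y hy)
  obtain ⟨P⟩ : Nonempty (Sylow 2 (GL (Fin 2) F)) := inferInstance
  have hP := (H6.twoPart_GL2_three h ht).card_sylow P
  have hQ := H6.qd_GL2 h ht P
  obtain ⟨m, -, hm, x, y, hx, hy, hxy⟩ := id hQ
  obtain rfl : m = n + 3 := by
    have := Nat.pow_right_injective le_rfl (hm.symm.trans hP); omega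
  have hxk : ∀ k, k < n + 3 → x ^ 2 ^ k ≠ 1 := fun k hk h1 => by
    rw [← orderOf_dvd_iff_pow_eq_one, hx, Nat.pow_dvd_pow_iff_le_right one_lt_two] at h1; omega
  have hx1 : x ^ 2 ^ (n + 3) = 1 := hx ▸ pow_orderOf_eq_one x
  have hyy : y * y = 1 := by rw [← sq]; exact orderOf_dvd_iff_pow_eq_one.1 hy.dvd
  have hr : x * (y * x * y⁻¹) = x ^ 2 ^ (n + 2) := by
    rw [hxy, ← pow_succ', Nat.sub_add_cancel Nat.one_le_two_pow]; rfl
  have hw : x * y * (x * y) = x ^ 2 ^ (n + 2) := by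
    rw [← hr, ← mul_eq_one_iff_eq_inv.1 hyy]; group
  have hsq : ∀ k, x ^ 2 ^ k * x ^ 2 ^ k = x ^ 2 ^ (k + 1) := fun k => by rw [← sq, ← pow_mul, ← pow_succ]
  have hxy2 : x * y * x ^ 2 * (x * y)⁻¹ = (x ^ 2)⁻¹ := by
    calc _ = x * (y * x * y⁻¹) ^ 2 * x⁻¹ := by rw [conj_pow]; group
      _ = (x ^ 2)⁻¹ * (x ^ 2 ^ (n + 2) * x ^ 2 ^ (n + 2)) := by
        rw [eq_inv_mul_iff_mul_eq.2 hr]; group
      _ = _ := by rw [hsq, hx1, mul_one]
  have hwx : x * y ∉ zpowers x := fun ⟨k, hk⟩ => hxk 2 (by omega) (by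
    rw [← show x ^ k = _ from hk, show x ^ k * x ^ 2 * (x ^ k)⁻¹ = x ^ 2 by group,
      eq_inv_iff_mul_eq_one] at hxy2
    rw [← hxy2]; group)
  obtain ⟨v, hv, hv2⟩ := gl2_order_four h4 (g := (x ^ 2 ^ (n + 1) : P)) (by
    rw [orderOf_coe, H6.orderOf_eq_four_iff, hsq, hsq]; exact ⟨hxk _ (by omega), hx1⟩)
  obtain ⟨w, hw', hw2⟩ := gl2_order_four h4 (g := (x * y : P)) (by
    rw [orderOf_coe, H6.orderOf_eq_four_iff, hw, hsq]; exact ⟨hxk _ (by omega), hx1⟩)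
  have hi : (zpowers x).index = 2 := by
    have h1 := (zpowers x).card_mul_index
    rw [Nat.card_zpowers, hx, hP, pow_succ 2 (n + 3)] at h1
    exact Nat.eq_of_mul_eq_mul_left (by positivity) h1
  haveI := normal_of_index_eq_two hi
  have hinj : Function.Injective (Matrix.SpecialLinearGroup.toGL : SL(2, F) →* GL (Fin 2) F) :=
    Matrix.SpecialLinearGroup.toGL_injective
  refine ⟨⟨P, ni_sylow P (pow_mem (mem_zpowers x) (2 ^ (n + 1))) hwx
    (hv ▸ hw' ▸ MonoidHom.map_isConj _ (hJ v w hv2 hw2)), hQ, hP⟩, ?_⟩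
  obtain ⟨a, ha⟩ : ∃ a : SL(2, F), Matrix.SpecialLinearGroup.toGL a = (x ^ 2 : P) := by
    have h1 : Matrix.GeneralLinearGroup.det (x : GL (Fin 2) F) ^ 2 = 1 := by
      have h5 := congrArg (fun u : P => Matrix.GeneralLinearGroup.det (u : GL (Fin 2) F)) hr
      have h6 := congrArg (fun u : P => Matrix.GeneralLinearGroup.det (u : GL (Fin 2) F)) (hsq (n + 1))
      simp only [coe_mul, map_mul, coe_inv, map_inv, mul_inv_cancel_comm, ← hv,
        Matrix.SpecialLinearGroup.coeToGL_det, mul_one] at h5 h6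
      rw [sq, h5, ← h6]
    exact ⟨⟨((x ^ 2 : P) : GL (Fin 2) F), by simpa using congrArg Units.val h1⟩, Units.ext rfl⟩
  obtain ⟨P₁, hP₁⟩ := (P.isPGroup'.comap_of_injective _ hinj).exists_le_sylow
  have haP : a ∈ P₁ := hP₁ (mem_comap.2 (ha ▸ (x ^ 2).2))
  have hwP : w ∈ P₁ := hP₁ (mem_comap.2 (hw' ▸ (x * y).2))
  have hav : a ^ 2 ^ n = v := hinj (by rw [map_pow, ha, hv, ← coe_pow, ← pow_mul, ← pow_succ'])
  refine ni_quat P₁ (a := ⟨a, haP⟩) (t := ⟨w, hwP⟩) ?_ (H6.TwoPart.card_sylow ?_ P₁)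
    (fun ⟨k, hk⟩ => hwx ⟨2 * k, Subtype.ext ?_⟩) (Subtype.ext (hinj ?_)) (Subtype.ext ?_)
    ((H3.sl2_mem_center h2 _).2 (Or.inr hw2)) (by rw [coe_pow, hav]; exact hJ v w hv2 hw2)
  · rw [orderOf_mk, ← orderOf_injective _ hinj, ha, orderOf_coe]
    exact orderOf_eq_prime_pow (by rw [← pow_mul, ← pow_succ']; exact hxk _ (by omega))
      (by rw [← pow_mul, ← pow_succ']; exact hx1)
  · refine H6.TwoPart.cancel (b := Nat.card Fˣ) (l := 1) ?_ ?_
    · rw [H6.card_SL_mul]; exact H6.twoPart_GL2_three h ht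
    · rw [H6.card_units_eq h]; exact H6.twoPart_one (by omega)
  · rw [← hw', ← show a ^ k = w from congrArg Subtype.val hk, map_zpow, ha]
    simp only [zpow_mul, coe_zpow, zpow_ofNat]
  · simpa only [coe_mul, coe_inv, map_mul, map_inv, ha, hw'] using congrArg Subtype.val hxy2
  · rw [coe_mul, coe_pow, pow_succ, pow_mul, hav, sq, hv2, hw2]

end GL2

theorem exists_ni (n : ℕ) : (∃ (G : Type) (_ : Group G) (_ : Finite G),
    NI G ∧ IsQuasiDihedral G ∧ Nat.card G = 2 ^ (n + 4)) ∧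
      NI (QuaternionGroup (2 ^ (n + 1))) ∧ NI (DihedralGroup (2 ^ (n + 1))) := by
  obtain ⟨c, hc⟩ : ∃ c, 2 ^ (n + 2) = c + 1 := ⟨_, (Nat.sub_add_cancel Nat.one_le_two_pow).symm⟩
  obtain ⟨q, -, hq, h⟩ := Nat.forall_exists_prime_gt_and_modEq 0 (q := 2 ^ (n + 3)) (a := c)
    (by positivity) (Nat.Coprime.pow_right _ (Nat.coprime_two_right.2 (by
      rw [← Nat.not_even_iff_odd, ← Nat.even_add_one, ← hc, pow_succ]; simp)))
  haveI := Fact.mk hq
  obtain ⟨⟨P, h1⟩, h2⟩ := ni_of_field (F := ZMod q) (t := q - 1) (n := n)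
    (by rw [ZMod.card, Nat.sub_add_cancel hq.one_le]) ⟨2 * (q / 2 ^ (n + 3)) + 1, by simp, by
      have h1 := Nat.div_add_mod q (2 ^ (n + 3))
      rw [show q % _ = c % _ from h, Nat.mod_eq_of_lt (by rw [pow_succ]; omega)] at h1
      have := hq.one_le
      rw [mul_add, mul_one, ← mul_assoc, ← pow_succ, show n + 2 + 1 = n + 3 from rfl]; omega⟩
  exact ⟨⟨P, _, inferInstance, h1⟩, h2⟩

theorem tab_bijective {G M : Type*} [Group G] [AddCommGroup M] {σ : M →+ M}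
    (T : H6.Tab (⊤ : Subgroup G) σ) : Function.Bijective (Sum.elim T.a T.b) := ⟨by
    rintro (i | i) (j | j) h <;> simpa using h, fun g => by
    rcases T.mem.1 (mem_top g) with ⟨i, rfl⟩ | ⟨i, rfl⟩
    exacts [⟨.inl i, rfl⟩, ⟨.inr i, rfl⟩]⟩

theorem tab_equiv {G G' M : Type*} [Group G] [Group G'] [AddCommGroup M] {σ : M →+ M}
    (T : H6.Tab (⊤ : Subgroup G) σ) (T' : H6.Tab (⊤ : Subgroup G') σ) : Nonempty (G ≃* G') := by
  let e := (Equiv.ofBijective _ (tab_bijective T)).symm.trans (Equiv.ofBijective _ (tab_bijective T'))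
  have ha : ∀ i, e (T.a i) = T'.a i := fun i =>
    congrArg (Equiv.ofBijective _ (tab_bijective T')) (Equiv.ofBijective_symm_apply_apply _ _ (.inl i))
  have hb : ∀ i, e (T.b i) = T'.b i := fun i =>
    congrArg (Equiv.ofBijective _ (tab_bijective T')) (Equiv.ofBijective_symm_apply_apply _ _ (.inr i))
  refine ⟨⟨e, fun x y => ?_⟩⟩
  rcases T.mem.1 (mem_top x) with ⟨i, rfl⟩ | ⟨i, rfl⟩ <;>
    rcases T.mem.1 (mem_top y) with ⟨j, rfl⟩ | ⟨j, rfl⟩ <;>
    simp only [Equiv.toFun_as_coe, T.aa, T.ab, T.ba, T.bb, T'.aa, T'.ab, T'.ba, T'.bb, ha, hb]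

theorem ni_of_cases {G : Type*} [Group G] [Finite G] (hG : IsPGroup 2 G)
    (h : (∃ n, 2 ≤ n ∧ Nonempty (G ≃* DihedralGroup n)) ∨ IsQuasiDihedral G ∨
      ∃ n, 2 ≤ n ∧ Nonempty (G ≃* QuaternionGroup n)) : NI G := by
  obtain ⟨k, hk⟩ := IsPGroup.iff_card.1 hG
  have hpow : ∀ c n, 2 ≤ n → c * n = 2 ^ k → ∃ m, n = 2 ^ (m + 1) := fun c n hn h1 => by
    obtain ⟨m, -, rfl⟩ := (Nat.dvd_prime_pow Nat.prime_two).1 (Dvd.intro_left c h1)
    obtain _ | m := m
    · omega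
    · exact ⟨m, rfl⟩
  rcases h with ⟨n, hn, ⟨e⟩⟩ | h | ⟨n, hn, ⟨e⟩⟩
  · obtain ⟨m, rfl⟩ := hpow 2 n hn (by rw [← hk, Nat.card_congr e.toEquiv, DihedralGroup.nat_card])
    exact (exists_ni m).2.2.of_equiv e.symm
  · obtain ⟨m, h1, ⟨T⟩⟩ := H6.exists_tab_qd h
    obtain ⟨m, rfl⟩ := Nat.exists_eq_add_of_le' (h1.one_le_m rfl)
    obtain ⟨G', _, _, h2, h3, h4⟩ := (exists_ni m).1
    obtain ⟨m', h5, ⟨T'⟩⟩ := H6.exists_tab_qd h3
    obtain rfl : m' = m + 1 := by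
      have := Nat.pow_right_injective le_rfl ((h5.card_eq T').symm.trans (card_top.trans h4)); omega
    exact h2.of_equiv (tab_equiv T' T).some
  · haveI : NeZero n := ⟨by omega⟩
    obtain ⟨m, rfl⟩ := hpow 4 n hn (by
      rw [← hk, Nat.card_congr e.toEquiv, Nat.card_eq_fintype_card, QuaternionGroup.card])
    exact (exists_ni m).2.1.of_equiv e.symm

end Cfsg.Agent.H8
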