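import Mathlib
import Cfsg.Agent.H8.Tate

/-!
Thompson's transfer lemma for saturated fusion systems.
-/

set_option autoImplicit false

namespace Cfsg.Agent.H8

open Equiv Cfsg.Fus Cfsg.FusionSystem Cfsg.Agent.H9.Marks MulAction

section general

variable {Γ : Type*} [Group Γ] {X : Type*} [MulAction Γ X] {A : Type*} [CommGroup A]
  {N : Subgroup Γ} {lam : Γ → A} {γ : Γ}

theorem dvd_ncard_mul_of_orbits [Finite X] {J : Set X} (hJ : SInv (⊤ : Subgroup Γ) J) {r c : ℕ}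
    (h : ∀ x ∈ J, r ∣ (orbit Γ x).ncard * c) : r ∣ J.ncard * c := by
  induction hn : J.ncard using Nat.strong_induction_on generalizing J with
  | _ n ih =>
    rcases J.eq_empty_or_nonempty with rfl | ⟨x, hx⟩
    · rw [← hn]; simp
    have hO : orbit Γ x ⊆ J := by rintro _ ⟨g, rfl⟩; exact hJ g trivial x hx
    have hOi : SInv (⊤ : Subgroup Γ) (orbit Γ x) := fun g _ y hy => mem_orbit_of_mem_orbit g hy
    rw [← hn, ← Set.ncard_sdiff_add_ncard_of_subset hO, add_mul]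
    refine dvd_add (ih _ ?_ (hJ.diff hOi) (fun y hy => h y hy.1) rfl) (h x hx)
    rw [← hn]
    exact Set.ncard_lt_ncard ⟨Set.sdiff_subset, fun h => (h hx).2 (mem_orbit_self x)⟩
      (Set.toFinite _)

/-- The union of the `N`-orbits fixed by `γ`. -/
def fixOrb (N : Subgroup Γ) (X : Type*) [MulAction Γ X] (γ : Γ) : Set X :=
  {x | ∃ a ∈ N, γ • x = a • x}

theorem sInv_fixOrb (hN : N.Normal) : SInv N (fixOrb N X γ) := by
  rintro n hn x ⟨a, ha, h⟩
  refine ⟨γ * n * γ⁻¹ * a * n⁻¹, N.mul_mem (N.mul_mem (hN.conj_mem n hn γ) ha) (N.inv_mem hn), ?_⟩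
  rw [mul_smul, inv_smul_smul, mul_smul, ← h, mul_smul, inv_smul_smul, mul_smul]

theorem smul_mem_fixOrb (hN : N.Normal) (x : X) : γ • x ∈ fixOrb N X γ ↔ x ∈ fixOrb N X γ := by
  constructor
  · rintro ⟨a, ha, h⟩
    refine ⟨γ⁻¹ * a * γ, hN.conj_mem' a ha γ, ?_⟩
    rw [mul_smul, mul_smul, ← h, inv_smul_smul]
  · rintro ⟨a, ha, h⟩
    refine ⟨γ * a * γ⁻¹, hN.conj_mem a ha γ, ?_⟩
    rw [mul_smul, inv_smul_smul, mul_smul, ← h]

theorem ncard_orbReps_modEq [Finite X] (hN : N.Normal) (h2 : γ * γ = 1) :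
    (orbReps N (Set.univ : Set X)).ncard ≡ (orbReps N (fixOrb N X γ)).ncard [MOD 2] := by
  classical
  haveI := Fintype.ofFinite (orbReps N (Set.univ : Set X))
  let f : Function.End (orbReps N (Set.univ : Set X)) := fun x =>
    ⟨orbRep N (γ • x.1), trivial, orbRep_orbRep _ _⟩
  have hf : f ^ 2 ^ 1 = 1 := funext fun x => Subtype.ext (by
    change orbRep N (γ • orbRep N (γ • x.1)) = x.1
    rw [orbRep_eq_inv_smul N (γ • x.1)]
    obtain ⟨n, hn, h3⟩ := smul_smul_of_normal hN γ _ (N.inv_mem (orbElt_mem N (γ • x.1))) (γ • x.1)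
    rw [h3, orbRep_smul hn, ← mul_smul, h2, one_smul, x.2.2])
  have := Equiv.Perm.card_fixedPoints_modEq hf
  rw [← Nat.card_eq_fintype_card, ← Nat.card_eq_fintype_card, Nat.card_coe_set_eq,
    Nat.card_coe_set_eq] at this
  rw [← Set.ncard_image_of_injective f.fixedPoints Subtype.val_injective] at this
  convert this using 2
  ext x
  constructor
  · rintro ⟨⟨a, ha, h3⟩, h4⟩
    exact ⟨⟨x, trivial, h4⟩, Subtype.ext (by
      change orbRep N (γ • x) = x
      rw [h3, orbRep_smul ha, h4]), rfl⟩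
  · rintro ⟨y, hy, rfl⟩
    refine ⟨⟨_, orbElt_mem N (γ • y.1), ?_⟩, y.2.2⟩
    have h3 := orbElt_smul_orbRep N (γ • y.1)
    rw [show orbRep N (γ • y.1) = y.1 from congrArg Subtype.val hy] at h3
    exact h3.symm

theorem trf_eq_fixOrb [Finite X] (hN : N.Normal) (hf : FreeOn N X) (hl : InvHom N lam)
    (h2 : γ * γ = 1) : trf N lam (Set.univ : Set X) γ = trf N lam (fixOrb N X γ) γ := by
  rw [← Set.sdiff_union_of_subset (Set.subset_univ (fixOrb N X γ)),
    trf_union Set.disjoint_sdiff_left, trf_eq_one hN hf hl ((sInv_univ N).diff (sInv_fixOrb hN))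
      (fun x => by simp [smul_mem_fixOrb hN]) fun x hx k n hn h3 => ?_, one_mul]
  obtain ⟨m, rfl | rfl⟩ := Int.even_or_odd' k
  · rw [zpow_mul, zpow_two, h2, one_zpow, one_smul] at h3
    rw [hf n hn x h3.symm, hl.one]
  · rw [zpow_add, zpow_mul, zpow_two, h2, one_zpow, one_mul, zpow_one] at h3
    exact absurd ⟨n, hn, h3⟩ hx.2

end general

universe u

variable {Ω : Type u} [Group Ω] {S : Subgroup Ω} {F : FusionSystem S}

theorem glf_injective {T : Subgroup Ω} {hn : S ≤ Subgroup.normalizer (T : Set Ω)} (hTS : T ≤ S) :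
    Function.Injective (glf hn hTS) := fun _ _ h => Subtype.ext (congrArg gfst h)

theorem mem_normalizer_zpowers_iff {j g : Ω} (hj : orderOf j = 2) :
    g ∈ Subgroup.normalizer ((Subgroup.zpowers j : Subgroup Ω) : Set Ω) ↔ g * j * g⁻¹ = j := by
  have hj2 : j * j = 1 := by rw [← sq, ← hj, pow_orderOf_eq_one]
  constructor
  · intro h
    obtain ⟨k, hk⟩ := conj_mem_of_mem_normalizer h (Subgroup.mem_zpowers j)
    obtain ⟨m, rfl | rfl⟩ := Int.even_or_odd' k
    · simp only [zpow_mul, zpow_two, hj2, one_zpow] at hk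
      rw [show j = 1 by simpa using hk.symm, orderOf_one] at hj
      omega
    · simpa only [zpow_add, zpow_mul, zpow_two, hj2, one_zpow, one_mul, zpow_one] using hk.symm
  · intro h
    refine Subgroup.centralizer_le_normalizer _ fun y hy => ?_
    obtain ⟨k, rfl⟩ := hy
    exact (Commute.zpow_left (mul_inv_eq_iff_eq_mul.1 h).symm k)

/-- Thompson's transfer lemma. -/
theorem not_mem_focal_of_index_two [Finite S] (hS : IsPGroup 2 S) (hF : F.IsSaturated 2)
    {T : Subgroup Ω} (hT : T.relIndex S = 2) {i : Ω} (hi : i ∈ S) (hi2 : orderOf i = 2)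
    (h : ∀ j : Ω, F.IsConjElt i j → F.IsFullyNormalized (Subgroup.zpowers j) → j ∉ T) :
    i ∉ F.focalSubgroup := fun hfoc => by
  classical
  obtain ⟨X, _, _, n, hX⟩ := exists_charSet_top hF hS
  haveI := Subgroup.normal_of_index_eq_two hT
  letI : CommGroup (S ⧸ T.subgroupOf S) := (isCyclic_of_prime_card hT).commGroup
  let θ : S →* S ⧸ T.subgroupOf S := QuotientGroup.mk' _
  have hθ : ∀ x : S, θ x = 1 ↔ (x : Ω) ∈ T := fun x => QuotientGroup.eq_one_iff x
  obtain ⟨ε, hε, hε'⟩ := (Nat.card_eq_two_iff' (1 : S ⧸ T.subgroupOf S)).1 hT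
  have hl := invHom_top θ
  set N := gN (S := S) (T := S) Subgroup.le_normalizer with hN
  set γ := grt (S := S) (T := S) Subgroup.le_normalizer le_rfl ⟨i, hi⟩ with hγ
  have hii : i * i = 1 := by rw [← sq, ← hi2, pow_orderOf_eq_one]
  have hγ2 : γ * γ = 1 := by rw [hγ, ← map_mul, show (⟨i, hi⟩ * ⟨i, hi⟩ : S) = 1 from Subtype.ext hii,
    map_one]
  have h1 := hX.tauS_eq_one hF hS θ (x := ⟨i, hi⟩) hfoc
  rw [hX.tauS_apply, trf_eq_fixOrb gN_normal hX.free hl hγ2] at h1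
  -- the fixed point sets
  let dj : S → gam S S Subgroup.le_normalizer := fun j =>
    gmk _ j i j.2 hi (S.mul_mem j.2 (S.inv_mem hi))
  let Xj : S → Set X := fun j => {x | dj j • x = x}
  have hdj : ∀ j, dj j = glf _ le_rfl j * γ := fun j => gam_ext (by simp [dj, hγ]) (by simp [dj, hγ])
  have hXm : ∀ j, (Xj j).ncard = mark X (Subgroup.zpowers (dj j)) := fun j => by
    rw [mark]
    congr 1
    ext x
    exact ⟨fun hx => ⟨trivial, fun d hd => (Subgroup.zpowers_le.2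
      (show dj j ∈ stabilizer _ x from hx)) hd⟩, fun hx => hx.2 _ (Subgroup.mem_zpowers _)⟩
  have hmap : ∀ j, (Subgroup.zpowers (dj j)).map gsnd = Subgroup.zpowers i := fun j =>
    MonoidHom.map_zpowers _ _
  have hIn : ∀ j x, x ∈ Xj j → InD F 2 (Subgroup.zpowers (dj j)) := fun j x hx =>
    (hX.supp x).mono (Subgroup.zpowers_le.2 hx)
  obtain ⟨Q, φ, hφ, hQ⟩ := F.exists_fullyNormalized (Subgroup.zpowers_le.2 hi)
  obtain rfl : Q = Subgroup.zpowers (φ i) := by rw [← hφ.img_eq, hφ.homOn.img_zpowers]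
  let j₀ : S := ⟨φ i, hφ.isMap.mem (Subgroup.mem_zpowers i)⟩
  have hIn₀ : InD F 2 (Subgroup.zpowers (dj j₀)) := by
    obtain ⟨a, ha⟩ := exists_deg hF hS hφ.isMap
    refine ⟨φ, a, ha.mem, by rw [hmap]; exact ha, ?_⟩
    rintro _ ⟨k, rfl⟩
    simp only [map_zpow]
    exact (hφ.homOn.map_zpow (Subgroup.mem_zpowers i) k).symm
  have hM : ∀ j x, x ∈ Xj j → (Xj j).ncard = (Xj j₀).ncard := fun j x hx => by
    rw [hXm, hXm]
    exact hX.stable _ _ (hIn j x hx) hIn₀ (by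
      rw [hmap, hmap]; exact (F.iso_one (Subgroup.zpowers_le.2 hi)).isConj)
  have hconj : ∀ j x, x ∈ Xj j → ∃ ψ : Perm Ω, F.IsMap (Subgroup.zpowers i) ψ ∧ ψ i = j :=
    fun j x hx => by
      obtain ⟨ψ, t, -, h2, h3⟩ := hIn j x hx
      rw [hmap] at h2
      exact ⟨ψ, h2.isMap, (h3 _ (Subgroup.mem_zpowers _)).symm⟩
  have hsm : ∀ (g j : S) x, x ∈ Xj j → glf _ le_rfl g • x ∈ Xj (g * j * g⁻¹) := fun g j x hx => by
    change dj _ • _ = _
    rw [← mul_smul, show dj (g * j * g⁻¹) * glf _ le_rfl g = glf _ le_rfl g * dj j from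
      gam_ext (by simp [dj]) (by simp [dj]), mul_smul, show dj j • x = x from hx]
  -- the order of the normalizer divides the number of fixed points
  have hord : ∀ {ψ : Perm Ω}, F.IsMap (Subgroup.zpowers i) ψ → orderOf (ψ i) = 2 := fun hψ => by
    rw [hψ.orderOf_eq (Subgroup.mem_zpowers i), hi2]
  have hc₀ : Nat.card (normalizerIn S (Subgroup.zpowers (j₀ : Ω))) ∣ (Xj j₀).ncard := by
    have h2 := ncard_orbReps_mul (N := ((normalizerIn S (Subgroup.zpowers (j₀ : Ω))).subgroupOf S).map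
      (glf Subgroup.le_normalizer le_rfl)) (X := X) (Z := Xj j₀)
      (fun d hd => hX.free d (by obtain ⟨g, -, rfl⟩ := hd; exact glf_mem_gN _ _))
      (by
        rintro _ ⟨g, hg, rfl⟩ x hx
        have := hsm g j₀ x hx
        rwa [show g * j₀ * g⁻¹ = j₀ from
          Subtype.ext ((mem_normalizer_zpowers_iff (hord hφ.isMap)).1 hg.2)] at this)
    rw [Subgroup.card_map_of_injective (glf_injective _),
      Nat.card_congr (Subgroup.subgroupOfEquivOfLe (normalizerIn_le _ _)).toEquiv] at h2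
    exact Dvd.intro_left _ h2
  -- the part of the fixed orbits where the cocycle is trivial
  let J : Set S := {j | (Xj j).Nonempty ∧ (j : Ω) ∈ T}
  have hJ : SInv (⊤ : Subgroup (ConjAct S)) J := by
    rintro g - j ⟨⟨x, hx⟩, hj⟩
    exact ⟨⟨_, hsm (ConjAct.ofConjAct g) j x hx⟩,
      (inferInstance : (T.subgroupOf S).Normal).conj_mem j hj (ConjAct.ofConjAct g)⟩
  have hdvd : 2 * Nat.card S ∣ J.ncard * (Xj j₀).ncard := by
    refine (dvd_ncard_mul_of_orbits hJ fun j hj => ?_).trans (Nat.mul_dvd_mul_left _ hc₀)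
    obtain ⟨⟨x, hx⟩, hjT⟩ := hj
    obtain ⟨ψ, hψ, h2⟩ := hconj j x hx
    have h3 : Nat.card (stabilizer (ConjAct S) j) =
        Nat.card (normalizerIn S (Subgroup.zpowers (j : Ω))) := Nat.card_congr
      { toFun := fun g => ⟨(ConjAct.ofConjAct g.1 : S), (ConjAct.ofConjAct g.1).2,
          (mem_normalizer_zpowers_iff (h2 ▸ hord hψ)).2 (congrArg Subtype.val g.2)⟩
        invFun := fun g => ⟨ConjAct.toConjAct ⟨g.1, g.2.1⟩,
          Subtype.ext ((mem_normalizer_zpowers_iff (h2 ▸ hord hψ)).1 g.2.2)⟩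
        left_inv := fun _ => rfl
        right_inv := fun _ => rfl }
    have h4 := (stabilizer (ConjAct S) j).index_mul_card
    rw [index_stabilizer, h3, show Nat.card (ConjAct S) = Nat.card S from rfl] at h4
    rw [← h4, mul_left_comm]
    refine Nat.mul_dvd_mul_left _ ?_
    have hiso : F.Iso (Subgroup.zpowers i) (Subgroup.zpowers (j : Ω)) ψ :=
      hψ.iso_of_img (by rw [hψ.homOn.img_zpowers, h2])
    have h5 : Nat.card (normalizerIn S (Subgroup.zpowers (j : Ω))) <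
        Nat.card (normalizerIn S (Subgroup.zpowers (j₀ : Ω))) := by
      by_contra hle
      refine h j (h2 ▸ hψ.isConjElt (Subgroup.mem_zpowers i)) ⟨hiso.le_right, fun R hR => ?_⟩ hjT
      exact (hQ.2 R ((hφ.symm.trans hiso).isConj.trans hR)).trans (not_lt.1 hle)
    obtain ⟨a, ha⟩ := IsPGroup.iff_card.1
      (isPGroup_of_le hS (normalizerIn_le S (Subgroup.zpowers (j : Ω))))
    obtain ⟨b, hb⟩ := IsPGroup.iff_card.1
      (isPGroup_of_le hS (normalizerIn_le S (Subgroup.zpowers (j₀ : Ω))))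
    rw [ha, hb] at h5 ⊢
    rw [← pow_succ']
    exact pow_dvd_pow 2 ((Nat.pow_lt_pow_iff_right one_lt_two).1 h5)
  have hfix : ∀ x, ∀ j : S, x ∈ Xj j ↔ γ • x = glf _ le_rfl j⁻¹ • x := fun x j => by
    change dj j • x = x ↔ _
    rw [hdj, mul_smul, map_inv, eq_inv_smul_iff]
  let Y₀ : Set X := ⋃ j ∈ J, Xj j
  have hY₀ : Y₀.ncard = J.ncard * (Xj j₀).ncard := by
    rw [Set.Finite.ncard_biUnion (Set.toFinite _) (fun _ _ => Set.toFinite _),
      finsum_mem_congr rfl fun j hj => hM j _ hj.1.some_mem,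
      finsum_mem_eq_finite_toFinset_sum _ (Set.toFinite J), Finset.sum_const,
      Set.ncard_eq_toFinset_card J, smul_eq_mul]
    intro a _ b _ hab
    refine Set.disjoint_left.2 fun x h1 h2 => hab ?_
    have := hX.free.eq (glf_mem_gN _ _) (glf_mem_gN _ _) (((hfix x a).1 h1).symm.trans ((hfix x b).1 h2))
    exact inv_injective (glf_injective _ this)
  have hY₀i : SInv N Y₀ := by
    intro d hd x hx
    simp only [Y₀, Set.mem_iUnion] at hx ⊢
    obtain ⟨j, hj, hx⟩ := hx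
    have h2 := hsm ⟨_, gfst_mem d⟩ j x hx
    rw [show glf _ le_rfl ⟨_, gfst_mem d⟩ = d from gam_ext rfl (mem_gN.1 hd).symm] at h2
    exact ⟨_, hJ (ConjAct.toConjAct ⟨_, gfst_mem d⟩) trivial j hj, h2⟩
  have hsub : Y₀ ⊆ fixOrb N X γ := fun x hx => by
    simp only [Y₀, Set.mem_iUnion] at hx
    obtain ⟨j, -, hx⟩ := hx
    exact ⟨_, glf_mem_gN _ _, (hfix x j).1 hx⟩
  have heven : 2 ∣ (orbReps N Y₀).ncard := by
    rw [← hY₀, ← ncard_orbReps_mul hX.free hY₀i, card_gN le_rfl] at hdvd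
    exact Nat.dvd_of_mul_dvd_mul_right Nat.card_pos hdvd
  have hval : ∀ x, ∀ j : S, x ∈ Xj j →
      extFun θ (gfst (orbElt N (γ • x))) / extFun θ (gfst (orbElt N x)) = θ j⁻¹ := fun x j hx => by
    rw [(hfix x j).1 hx, equivar_orbElt hX.free hl _ (glf_mem_gN _ _), mul_div_cancel_right,
      gfst_glf, extFun_coe]
  rw [← Set.sdiff_union_of_subset hsub, trf_union Set.disjoint_sdiff_left, trf, trf,
    qprod_one (Z := Y₀) fun x hx => ?_, mul_one, qprod_congr (d := fun _ => ε) fun x hx => ?_,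
    qprod_const] at h1
  · have h2 := ncard_orbReps_modEq (X := X) gN_normal hγ2
    rw [hX.ncard_orbReps le_rfl] at h2
    have h3 : orbReps N (fixOrb N X γ \ Y₀) = orbReps N (fixOrb N X γ) \ orbReps N Y₀ := by
      ext x; simp only [orbReps, Set.mem_sdiff, Set.mem_ofPred_eq]; tauto
    have h4 := Set.ncard_sdiff_add_ncard_of_subset
      (show orbReps N Y₀ ⊆ orbReps N (fixOrb N X γ) from fun x hx => ⟨hsub hx.1, hx.2⟩)
    rw [← h3] at h4
    refine hε (eq_one_of_pow_of_not_dvd (p := 2) (k := 1) (fun h5 => hX.not_dvd ?_) h1 ?_)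
    · exact (h2.dvd_iff dvd_rfl).2 (h4 ▸ dvd_add h5 heven)
    · rw [pow_one, ← hT]; exact pow_card_eq_one'
  · obtain ⟨⟨a, ha, h2⟩, h3⟩ := hx
    have h4 : x ∈ Xj ⟨_, gfst_mem a⟩⁻¹ := by
      rw [hfix, inv_inv, h2, show glf _ le_rfl ⟨_, gfst_mem a⟩ = a from gam_ext rfl (mem_gN.1 ha).symm]
    rw [hval x _ h4]
    refine hε' _ fun h5 => h3 ?_
    simp only [Y₀, Set.mem_iUnion]
    exact ⟨_, ⟨⟨x, h4⟩, T.inv_mem_iff.1 ((hθ _).1 h5)⟩, h4⟩
  · simp only [Y₀, Set.mem_iUnion] at hx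
    obtain ⟨j, hj, hx⟩ := hx
    rw [hval x j hx]
    exact (hθ _).2 (T.inv_mem hj.2)

end Cfsg.Agent.H8
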